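import Cfsg.Agent.Lib.Sourour.Avoid

/-!
Moves of a pair of blocks `(A, C)` by `A ↦ A + S * C` towards a prescribed determinant.
-/

set_option autoImplicit false

namespace Cfsg.Agent.Lib.ThompsonSquare

open Matrix Module Cfsg.Agent.Lib.Sourour

variable {F : Type*} [Field F] {k : ℕ}

/-- The quadratic form of `Z` vanishes. -/
def IsAltM (Z : Matrix (Fin k) (Fin k) F) : Prop := ∀ x, x ⬝ᵥ Z *ᵥ x = 0

/-- `Z` is symmetric. -/
def IsSymM (Z : Matrix (Fin k) (Fin k) F) : Prop := Zᵀ = Z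

/-- Four elements can be avoided. -/
def Five (F : Type*) [Field F] : Prop := ∀ a b c d : F, ∃ t : F, t ≠ a ∧ t ≠ b ∧ t ≠ c ∧ t ≠ d

/-- Not scalar. -/
def NonScalar (A : Matrix (Fin k) (Fin k) F) : Prop := ∀ c : F, A ≠ c • 1

theorem IsAltM.flip {Z : Matrix (Fin k) (Fin k) F} (h : IsAltM Z) (x y : Fin k → F) :
    x ⬝ᵥ Z *ᵥ y = -(y ⬝ᵥ Z *ᵥ x) := by
  have := h (x + y)
  simp only [mulVec_add, dotProduct_add, add_dotProduct, h x, h y] at this
  linear_combination this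

theorem IsAltM.add {Z W : Matrix (Fin k) (Fin k) F} (h : IsAltM Z) (h' : IsAltM W) : IsAltM (Z + W) :=
  fun x => by rw [add_mulVec, dotProduct_add, h x, h' x, add_zero]

theorem IsSymM.add {Z W : Matrix (Fin k) (Fin k) F} (h : IsSymM Z) (h' : IsSymM W) : IsSymM (Z + W) := by
  rw [IsSymM, transpose_add, h, h']

theorem IsSymM.flip {Z : Matrix (Fin k) (Fin k) F} (h : IsSymM Z) (x y : Fin k → F) :
    x ⬝ᵥ Z *ᵥ y = y ⬝ᵥ Z *ᵥ x := by
  rw [dotProduct_mulVec, ← mulVec_transpose, h, dotProduct_comm]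

theorem outer_mulVec (u v x : Fin k → F) : vecMulVec u v *ᵥ x = (v ⬝ᵥ x) • u := by
  funext i
  simp [vecMulVec_mulVec, mul_comm]

theorem five_of_card [Fintype F] (h : 5 ≤ Fintype.card F) : Five F := by
  classical
  intro a b c d
  obtain ⟨t, ht⟩ : ∃ t, t ∉ ({a, b, c, d} : Finset F) := by
    by_contra hcon
    push Not at hcon
    have := Finset.card_le_card (fun t _ => hcon t : (Finset.univ : Finset F) ⊆ {a, b, c, d})
    have := (Finset.card_insert_le a {b, c, d}).trans (Nat.add_le_add_right Finset.card_le_three 1)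
    rw [Finset.card_univ] at *
    omega
  simp only [Finset.mem_insert, Finset.mem_singleton, not_or] at ht
  exact ⟨t, ht⟩

theorem exists_perp {j : ℕ} (l : Fin j → Fin k → F) (h : j < k) : ∃ u : Fin k → F, u ≠ 0 ∧ ∀ i, l i ⬝ᵥ u = 0 := by
  have hb : LinearMap.ker (Matrix.of l).mulVecLin ≠ ⊥ :=
    LinearMap.ker_ne_bot_of_finrank_lt (by simpa using h)
  obtain ⟨u, hu, hu0⟩ := Submodule.exists_mem_ne_zero_of_ne_bot hb
  exact ⟨u, hu0, fun i => congrFun (show (Matrix.of l) *ᵥ u = 0 from LinearMap.mem_ker.1 hu) i⟩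

theorem det_rank_one (u v : Fin k → F) : (1 + vecMulVec u v).det = 1 + v ⬝ᵥ u := by
  rw [← det_one_add_replicateCol_mul_replicateRow (ι := Unit) u v, vecMulVec_eq Unit]

theorem det_rank_two (e e' p q : Fin k → F) :
    (1 + (vecMulVec e p + vecMulVec e' q)).det =
      (1 + p ⬝ᵥ e) * (1 + q ⬝ᵥ e') - (p ⬝ᵥ e') * (q ⬝ᵥ e) := by
  have h : vecMulVec e p + vecMulVec e' q = (Matrix.of ![e, e'])ᵀ * Matrix.of ![p, q] := by
    ext i j
    simp [Matrix.mul_apply, Fin.sum_univ_two, vecMulVec_apply]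
  rw [h, det_one_add_mul_comm, det_fin_two]
  simp [vecMul, dotProduct]

theorem finrank_ker_lt {A A' : Matrix (Fin k) (Fin k) F} (h : ∀ x, A' *ᵥ x = 0 → A *ᵥ x = 0)
    {x₀ : Fin k → F} (hA : A *ᵥ x₀ = 0) (hA' : A' *ᵥ x₀ ≠ 0) :
    finrank F (LinearMap.ker A'.mulVecLin) < finrank F (LinearMap.ker A.mulVecLin) := by
  refine Submodule.finrank_lt_finrank_of_lt (lt_of_le_of_ne (fun x hx => ?_) fun e => ?_)
  · exact LinearMap.mem_ker.2 (h x (LinearMap.mem_ker.1 hx))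
  · exact hA' (LinearMap.mem_ker.1 (show x₀ ∈ LinearMap.ker A'.mulVecLin by rw [e]; exact LinearMap.mem_ker.2 hA))

theorem exists_kernel {A : Matrix (Fin k) (Fin k) F} (h : A.det = 0) :
    (∃ x, x ≠ 0 ∧ A *ᵥ x = 0) ∧ LinearMap.range A.mulVecLin ≠ ⊤ := by
  refine ⟨exists_mulVec_eq_zero_iff.2 h, fun e => ?_⟩
  obtain ⟨x, hx, hx'⟩ := exists_mulVec_eq_zero_iff.2 h
  exact hx (LinearMap.injective_iff_surjective.2 (LinearMap.range_eq_top.1 e)
    (show A.mulVecLin x = A.mulVecLin 0 by simpa using hx'))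

/-- The functional `x ↦ c ⬝ᵥ x`. -/
theorem top_not_le_perp {c : Fin k → F} (hc : c ≠ 0) :
    ¬ (⊤ : Submodule F (Fin k → F)) ≤ LinearMap.ker (dotProductBilin F F c) := by
  intro h
  obtain ⟨i, hi⟩ := Function.ne_iff.1 hc
  exact hi (by simpa using LinearMap.mem_ker.1 (h (Submodule.mem_top (x := Pi.single i 1))))

theorem scalar_pair {A R R' : Matrix (Fin k) (Fin k) F} (hA : IsUnit A.det) {c c' : F}
    (h : (1 + R) * A = c • 1) (h' : (1 + R') * A = c' • 1) : c' • (1 + R) = c • (1 + R') := by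
  have e : (c' • (1 + R)) * A = (c • (1 + R')) * A := by
    rw [Matrix.smul_mul, Matrix.smul_mul, h, h', smul_smul, smul_smul, mul_comm]
  have := congrArg (· * A⁻¹) e
  simpa only [mul_assoc, mul_nonsing_inv A hA, mul_one] using this

theorem scalar_ne_zero {A M : Matrix (Fin k) (Fin k) F} (hk : 0 < k) (hA : IsUnit A.det) (hM : M.det ≠ 0) {c : F}
    (h : M * A = c • 1) : c ≠ 0 := by
  rintro rfl
  have := congrArg Matrix.det h
  have hne : Nonempty (Fin k) := ⟨⟨0, hk⟩⟩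
  rw [zero_smul, det_mul, det_zero, mul_eq_zero] at this
  exact this.elim hM hA.ne_zero

/-- Two moves agreeing on a non-zero vector they fix give different scalars only if equal. -/
theorem fixed_pair {A R R' : Matrix (Fin k) (Fin k) F} (hA : IsUnit A.det) {c c' : F} (hc : c ≠ 0)
    (h : (1 + R) * A = c • 1) (h' : (1 + R') * A = c' • 1) {u : Fin k → F} (hu : (1 + R) *ᵥ u ≠ 0)
    (hR : R *ᵥ u = R' *ᵥ u) : R = R' := by
  have e := scalar_pair hA h h'
  have e1 := congrArg (· *ᵥ u) e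
  simp only [smul_mulVec, add_mulVec, one_mulVec, hR] at e1
  rw [add_mulVec, one_mulVec, hR] at hu
  have : c' = c := smul_left_injective F hu e1
  rw [this] at e
  exact add_left_cancel (smul_right_injective _ hc e)

section Symplectic

theorem sp_raise {A C : Matrix (Fin k) (Fin k) F} (hinj : ∀ x, A *ᵥ x = 0 → C *ᵥ x = 0 → x = 0)
    (h : A.det = 0) : ∃ S, IsSymM S ∧
      finrank F (LinearMap.ker (A + S * C).mulVecLin) < finrank F (LinearMap.ker A.mulVecLin) := by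
  obtain ⟨⟨x₀, hx0, hx⟩, hr⟩ := exists_kernel h
  obtain ⟨w, -, hw, hw'⟩ := exists_notMem_pair (fun le => hr (top_unique le))
    (top_not_le_perp (fun e => hx0 (hinj x₀ hx e)))
  have hw0 : (C *ᵥ x₀) ⬝ᵥ w ≠ 0 := fun e => hw' (LinearMap.mem_ker.2 e)
  refine ⟨vecMulVec w w, transpose_vecMulVec w w, finrank_ker_lt (fun x hx' => ?_) hx ?_⟩
  · rw [add_mulVec, ← mulVec_mulVec, outer_mulVec] at hx'
    by_cases hc : w ⬝ᵥ C *ᵥ x = 0
    · simpa [hc] using hx'
    · refine absurd ?_ hw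
      refine ⟨-(w ⬝ᵥ C *ᵥ x)⁻¹ • x, ?_⟩
      rw [mulVecLin_apply, mulVec_smul, eq_neg_of_add_eq_zero_left hx']
      rw [neg_smul, smul_neg, neg_neg, smul_smul, inv_mul_cancel₀ hc, one_smul]
  · rw [add_mulVec, ← mulVec_mulVec, outer_mulVec, hx, zero_add, smul_ne_zero_iff]
    refine ⟨by rwa [dotProduct_comm] at hw0, fun e => hw (by rw [e]; exact zero_mem _)⟩

theorem exists_entry {Y : Matrix (Fin k) (Fin k) F} (hY : Y ≠ 0) : ∃ e e' : Fin k → F, e ⬝ᵥ Y *ᵥ e' ≠ 0 := by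
  by_contra h
  push Not at h
  exact hY (Matrix.ext fun i j => by simpa using h (Pi.single i 1) (Pi.single j 1))

theorem sp_step (h5 : Five F) (hk : 2 ≤ k) {A Y : Matrix (Fin k) (Fin k) F} (hA : IsUnit A.det)
    (hY : IsSymM Y) (hY0 : Y ≠ 0) {ρ : F} (hρ : ρ ≠ 0) (hρ1 : ρ ≠ 1) (hsq : (2 : F) = 0 → IsSquare ρ) :
    ∃ S, IsSymM S ∧ (1 + S * Y).det = ρ ∧ NonScalar ((1 + S * Y) * A) := by
  obtain ⟨e, e', hy⟩ := exists_entry hY0
  have vm : ∀ x : Fin k → F, x ᵥ* Y = Y *ᵥ x := fun x => by rw [← mulVec_transpose, hY]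
  by_cases hQ : ∀ x, x ⬝ᵥ Y *ᵥ x = 0
  · have hflip := IsAltM.flip hQ e e'
    rw [hY.flip e' e] at hflip
    have h2 : (2 : F) = 0 :=
      (mul_eq_zero.1 (show (2 : F) * (e ⬝ᵥ Y *ᵥ e') = 0 by linear_combination hflip)).resolve_right hy
    obtain ⟨r, hr⟩ := hsq h2
    set y := e ⬝ᵥ Y *ᵥ e' with hydef
    set s := (r - 1) / y with hsdef
    have hs : 1 + s * y = r := by rw [hsdef, div_mul_cancel₀ _ hy]; ring
    have hr1 : r ≠ 1 := fun e1 => hρ1 (by rw [hr, e1, one_mul])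
    have hs0 : s ≠ 0 := div_ne_zero (sub_ne_zero.2 hr1) hy
    let S : F → Matrix (Fin k) (Fin k) F := fun a =>
      s • (vecMulVec e e' + vecMulVec e' e) + a • vecMulVec e e
    have hS : ∀ a, IsSymM (S a) := fun a => by
      simp [S, IsSymM, transpose_vecMulVec, add_comm]
    have hSY : ∀ a, S a * Y = vecMulVec e (s • (e' ᵥ* Y) + a • (e ᵥ* Y)) + vecMulVec e' (s • (e ᵥ* Y)) := by
      intro a
      simp only [S, add_mul, Matrix.smul_mul, vecMulVec_mul, vecMulVec_add, vecMulVec_smul, smul_add]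
      abel
    have he' : (e' ᵥ* Y) ⬝ᵥ e = y := by rw [← dotProduct_mulVec, hY.flip]
    have hdet : ∀ a, (1 + S a * Y).det = ρ := by
      intro a
      rw [hSY, det_rank_two]
      simp only [add_dotProduct, smul_dotProduct, he', ← dotProduct_mulVec, hQ, smul_eq_mul, hr]
      rw [← hydef, ← hs]
      ring
    by_contra hcon
    push Not at hcon
    simp only [NonScalar, not_forall, not_not] at hcon
    obtain ⟨c, hc⟩ := hcon (S 0) (hS 0) (hdet 0)
    obtain ⟨c', hc'⟩ := hcon (S 1) (hS 1) (hdet 1)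
    have hd0 : (1 + S 0 * Y).det ≠ 0 := by rw [hdet]; exact hρ
    obtain ⟨u, hu, hu'⟩ := exists_perp ![e ᵥ* Y] (by omega)
    have hu0 : (e ᵥ* Y) ⬝ᵥ u = 0 := hu' 0
    have := fixed_pair hA (scalar_ne_zero (by omega) hA hd0 hc) hc hc'
      (fun h => hu (mulVec_injective_iff_isUnit.2 ((isUnit_iff_isUnit_det _).2 hd0.isUnit)
        (h.trans (mulVec_zero _).symm)))
      (by rw [hSY, hSY]; simp only [add_mulVec, outer_mulVec, add_dotProduct, smul_dotProduct, hu0, smul_zero, add_zero])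
    have key := congrArg (· *ᵥ e') this
    simp only [hSY, add_mulVec, outer_mulVec, add_dotProduct, smul_dotProduct, ← dotProduct_mulVec, hQ,
      ← hydef, zero_smul, smul_eq_mul, one_mul, mul_zero, zero_add, add_zero] at key
    have he : e ≠ 0 := fun h0 => hy (by rw [hydef, h0, zero_dotProduct])
    exact smul_ne_zero hy he (add_eq_right.1 key.symm)
  · push Not at hQ
    obtain ⟨w, hw⟩ := hQ
    have hw0 : w ≠ 0 := fun h0 => hw (by rw [h0, zero_dotProduct])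
    obtain ⟨v, hv⟩ : ∃ v, v ∉ Submodule.span F {w} := by
      by_contra h
      push Not at h
      have := finrank_span_singleton (K := F) hw0
      rw [Submodule.eq_top_iff'.2 h, finrank_top, finrank_fin_fun] at this
      omega
    set P := w ⬝ᵥ Y *ᵥ w
    set B := w ⬝ᵥ Y *ᵥ v
    set R := v ⬝ᵥ Y *ᵥ v
    obtain ⟨t, ht0, htB, htQ⟩ : ∃ t : F, t ≠ 0 ∧ P + t * B ≠ 0 ∧ P + 2 * t * B + t * t * R ≠ 0 := by
      by_contra hcon
      push Not at hcon
      have hbad : ∀ a : F, a ≠ 0 → a ≠ -P / B → P + 2 * a * B + a * a * R = 0 := by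
        intro a ha hab
        refine hcon a ha fun e0 => ?_
        by_cases hB : B = 0
        · exact hw (by simpa [hB] using e0)
        · exact hab (by field_simp; linear_combination e0)
      obtain ⟨a, a0, aB, -, -⟩ := h5 0 (-P / B) 0 0
      obtain ⟨a', a'0, a'B, a'a, -⟩ := h5 0 (-P / B) a 0
      obtain ⟨a'', a''0, a''B, a''a, a''a'⟩ := h5 0 (-P / B) a a'
      have e1 := hbad a a0 aB
      have e2 := hbad a' a'0 a'B
      have e3 := hbad a'' a''0 a''B
      have f1 : 2 * B + (a + a') * R = 0 :=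
        (mul_eq_zero.1 (show (a' - a) * (2 * B + (a + a') * R) = 0 by linear_combination e2 - e1)).resolve_left
          (sub_ne_zero.2 a'a)
      have f2 : 2 * B + (a + a'') * R = 0 :=
        (mul_eq_zero.1 (show (a'' - a) * (2 * B + (a + a'') * R) = 0 by linear_combination e3 - e1)).resolve_left
          (sub_ne_zero.2 a''a)
      have hR : R = 0 :=
        (mul_eq_zero.1 (show (a'' - a') * R = 0 by linear_combination f2 - f1)).resolve_left (sub_ne_zero.2 a''a')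
      refine hw ?_
      linear_combination e1 - a * f1 + a * a' * hR
    set w' := w + t • v with hw'def
    have hQw' : w' ⬝ᵥ Y *ᵥ w' ≠ 0 := by
      simp only [hw'def, mulVec_add, mulVec_smul, dotProduct_add, add_dotProduct, smul_dotProduct,
        dotProduct_smul, smul_eq_mul, hY.flip v w]
      contrapose! htQ
      linear_combination htQ
    have hBw' : w' ⬝ᵥ Y *ᵥ w ≠ 0 := by
      simp only [hw'def, add_dotProduct, smul_dotProduct, smul_eq_mul, hY.flip v w]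
      exact htB
    let S : (Fin k → F) → Matrix (Fin k) (Fin k) F := fun x => ((ρ - 1) / (x ⬝ᵥ Y *ᵥ x)) • vecMulVec x x
    have hS : ∀ x, IsSymM (S x) := fun x => by simp [S, IsSymM, transpose_vecMulVec]
    have hSY : ∀ x, S x * Y = vecMulVec x (((ρ - 1) / (x ⬝ᵥ Y *ᵥ x)) • (x ᵥ* Y)) := fun x => by
      simp only [S, Matrix.smul_mul, vecMulVec_mul, vecMulVec_smul]
    have hdet : ∀ x, x ⬝ᵥ Y *ᵥ x ≠ 0 → (1 + S x * Y).det = ρ := fun x hx => by
      rw [hSY, det_rank_one, smul_dotProduct, ← dotProduct_mulVec, smul_eq_mul, div_mul_cancel₀ _ hx]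
      ring
    by_contra hcon
    push Not at hcon
    simp only [NonScalar, not_forall, not_not] at hcon
    obtain ⟨c, hc⟩ := hcon (S w) (hS w) (hdet w hw)
    obtain ⟨c', hc'⟩ := hcon (S w') (hS w') (hdet w' hQw')
    obtain ⟨u, hu, hu'⟩ := exists_perp ![w' ᵥ* Y] (by omega)
    have hu0 : (w' ᵥ* Y) ⬝ᵥ u = 0 := hu' 0
    have key := congrArg (· *ᵥ u) (scalar_pair hA hc hc')
    simp only [hSY, smul_mulVec, add_mulVec, one_mulVec, outer_mulVec, smul_dotProduct, hu0, smul_zero,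
      zero_smul, add_zero, smul_add, smul_smul] at key
    have huw : u ∉ Submodule.span F {w} := by
      intro hm
      obtain ⟨a, rfl⟩ := Submodule.mem_span_singleton.1 hm
      rw [dotProduct_smul, ← dotProduct_mulVec, smul_eq_mul] at hu0
      exact hu (by rw [(mul_eq_zero.1 hu0).resolve_right hBw', zero_smul])
    have hcc : c' = c := by
      by_contra hne
      refine huw (Submodule.mem_span_singleton.2 ⟨(c - c')⁻¹ * (c' * ((ρ - 1) / P * (w ᵥ* Y ⬝ᵥ u))), ?_⟩)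
      have key2 : (c' * ((ρ - 1) / P * (w ᵥ* Y ⬝ᵥ u))) • w = (c - c') • u := by
        linear_combination (norm := module) key
      rw [mul_smul, key2, inv_smul_smul₀ (sub_ne_zero.2 (Ne.symm hne))]
    have hR := scalar_pair hA hc hc'
    rw [hcc] at hR
    have heq := add_left_cancel (smul_right_injective _
      (scalar_ne_zero (by omega) hA (by rw [hdet w hw]; exact hρ) hc) hR)
    obtain ⟨z, hz, hz'⟩ := exists_perp ![w ᵥ* Y] (by omega)
    have hz0 : (w ᵥ* Y) ⬝ᵥ z = 0 := hz' 0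
    have k1 := congrArg (· *ᵥ w) heq
    simp only [hSY, outer_mulVec, smul_dotProduct, ← dotProduct_mulVec, smul_eq_mul] at k1
    rw [div_mul_cancel₀ _ hw] at k1
    have hww : w' ∈ Submodule.span F {w} := Submodule.mem_span_singleton.2
      ⟨((ρ - 1) / (w' ⬝ᵥ Y *ᵥ w') * (w' ⬝ᵥ Y *ᵥ w))⁻¹ * (ρ - 1), by
        rw [mul_smul, k1, smul_smul, inv_mul_cancel₀ (mul_ne_zero (div_ne_zero (sub_ne_zero.2 hρ1) hQw') hBw'),
          one_smul]⟩
    refine hv ?_
    have := Submodule.sub_mem _ hww (Submodule.mem_span_singleton_self w)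
    rw [hw'def, add_sub_cancel_left] at this
    exact (Submodule.smul_mem_iff _ ht0).1 this

theorem quot_mul {A C : Matrix (Fin k) (Fin k) F} (hA : IsUnit A.det) (S : Matrix (Fin k) (Fin k) F) :
    (1 + S * (C * A⁻¹)) * A = A + S * C := by
  rw [add_mul, one_mul, mul_assoc, mul_assoc, nonsing_inv_mul A hA, mul_one]

theorem quot_ne_zero {A C : Matrix (Fin k) (Fin k) F} (hA : IsUnit A.det) (hC : C ≠ 0) : C * A⁻¹ ≠ 0 := fun e =>
  hC (by rw [← mul_one C, ← nonsing_inv_mul A hA, ← mul_assoc, e, zero_mul])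

theorem sp_det_ne (h5 : Five F) (hk : 2 ≤ k) (hsqF : (2 : F) = 0 → ∀ x : F, IsSquare x)
    {A C : Matrix (Fin k) (Fin k) F} (hA : IsUnit A.det) (hC : C ≠ 0) (hsym : IsSymM (Aᵀ * C)) {d : F}
    (hd : d ≠ 0) (hne : A.det ≠ d) :
    ∃ S, IsSymM S ∧ (A + S * C).det = d ∧ NonScalar (A + S * C) := by
  have hY : IsSymM (C * A⁻¹) := by
    have hs : Cᵀ * A = Aᵀ * C := by rw [IsSymM, transpose_mul, transpose_transpose] at hsym; exact hsym
    have hAt : IsUnit Aᵀ.det := by rwa [det_transpose]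
    rw [IsSymM, transpose_mul, transpose_nonsing_inv]
    calc (Aᵀ)⁻¹ * Cᵀ = (Aᵀ)⁻¹ * (Cᵀ * A) * A⁻¹ := by rw [mul_assoc, mul_assoc, mul_nonsing_inv A hA, mul_one]
      _ = _ := by rw [hs, ← mul_assoc, nonsing_inv_mul _ hAt, one_mul]
  obtain ⟨S, hS, hdet, hns⟩ := sp_step h5 hk hA hY (quot_ne_zero hA hC) (ρ := d / A.det)
    (div_ne_zero hd hA.ne_zero) (fun e => hne ((div_eq_one_iff_eq hA.ne_zero).1 e).symm) fun h => hsqF h _
  refine ⟨S, hS, ?_, by rwa [quot_mul hA S] at hns⟩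
  rw [← quot_mul hA S, det_mul, hdet, div_mul_cancel₀ _ hA.ne_zero]

theorem sp_det (h5 : Five F) (hk : 2 ≤ k) (hsqF : (2 : F) = 0 → ∀ x : F, IsSquare x)
    {A C : Matrix (Fin k) (Fin k) F} (hA : IsUnit A.det) (hC : C ≠ 0) (hsym : IsSymM (Aᵀ * C)) {d : F}
    (hd : d ≠ 0) : ∃ S, IsSymM S ∧ (A + S * C).det = d ∧ NonScalar (A + S * C) := by
  by_cases hne : A.det ≠ d
  · exact sp_det_ne h5 hk hsqF hA hC hsym hd hne
  push Not at hne
  obtain ⟨r, hr, hr1, -, -⟩ := h5 0 1 0 0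
  obtain ⟨S₁, hS₁, hd₁, -⟩ := sp_det_ne h5 hk hsqF hA hC hsym (d := r * d) (mul_ne_zero hr hd)
    (by rw [hne]; intro e; exact hr1 (mul_right_cancel₀ hd (by rw [one_mul]; exact e.symm)))
  have hsym₁ : IsSymM ((A + S₁ * C)ᵀ * C) := by
    rw [transpose_add, add_mul, transpose_mul, hS₁]
    refine hsym.add ?_
    rw [IsSymM, transpose_mul, transpose_mul, transpose_transpose, hS₁, mul_assoc]
  obtain ⟨S₂, hS₂, hd₂, hns⟩ := sp_det_ne h5 hk hsqF (A := A + S₁ * C)
    (by rw [hd₁]; exact (mul_ne_zero hr hd).isUnit) hC hsym₁ hd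
    (by rw [hd₁]; intro e; exact hr1 (mul_right_cancel₀ hd (by rw [one_mul]; exact e)))
  refine ⟨S₁ + S₂, hS₁.add hS₂, ?_, ?_⟩
  · rwa [add_mul, ← add_assoc]
  · rwa [add_mul, ← add_assoc]

end Symplectic

section Orthogonal

/-- The alternating matrix of two vectors. -/
def wedge (u v : Fin k → F) : Matrix (Fin k) (Fin k) F := vecMulVec u v - vecMulVec v u

theorem wedge_alt (u v : Fin k → F) : IsAltM (wedge u v) := fun x => by
  simp only [wedge, sub_mulVec, outer_mulVec, dotProduct_sub, dotProduct_smul, smul_eq_mul]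
  rw [dotProduct_comm x u, dotProduct_comm x v]
  ring

theorem IsAltM.smul {Z : Matrix (Fin k) (Fin k) F} (h : IsAltM Z) (s : F) : IsAltM (s • Z) :=
  fun x => by rw [smul_mulVec, dotProduct_smul, h x, smul_zero]

theorem plus_raise {A C : Matrix (Fin k) (Fin k) F} (hinj : ∀ x, A *ᵥ x = 0 → C *ᵥ x = 0 → x = 0)
    (h : A.det = 0) (h2 : 2 ≤ finrank F (LinearMap.ker A.mulVecLin)) : ∃ S, IsAltM S ∧
      finrank F (LinearMap.ker (A + S * C).mulVecLin) < finrank F (LinearMap.ker A.mulVecLin) := by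
  obtain ⟨⟨x₀, hx0, hx⟩, hr⟩ := exists_kernel h
  set c := C *ᵥ x₀ with hc
  obtain ⟨w, -, hw, -⟩ := exists_notMem_pair (fun le => hr (top_unique le))
    (top_not_le_perp (fun e => hx0 (hinj x₀ hx e)))
  set T := LinearMap.range A.mulVecLin ⊔ Submodule.span F {w}
  have hT : ¬ (⊤ : Submodule F (Fin k → F)) ≤ T := by
    intro le
    have h1 : finrank F T ≤ finrank F (LinearMap.range A.mulVecLin) + 1 :=
      (Submodule.finrank_add_le_finrank_add_finrank _ _).trans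
        (Nat.add_le_add_left ((finrank_span_le_card ({w} : Set (Fin k → F))).trans (by simp)) _)
    have h3 := A.mulVecLin.finrank_range_add_finrank_ker
    rw [top_unique le, finrank_top] at h1
    omega
  obtain ⟨w', -, hw', hw'c⟩ := exists_notMem_pair hT (top_not_le_perp (fun e => hx0 (hinj x₀ hx e)))
  have hw0 : w' ⬝ᵥ c ≠ 0 := fun e => hw'c (LinearMap.mem_ker.2 (by
    show c ⬝ᵥ w' = 0; rwa [dotProduct_comm]))
  refine ⟨wedge w w', wedge_alt w w', finrank_ker_lt (fun x hx' => ?_) hx ?_⟩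
  · rw [add_mulVec, ← mulVec_mulVec, wedge, sub_mulVec, outer_mulVec, outer_mulVec] at hx'
    set a := w' ⬝ᵥ C *ᵥ x
    set b := w ⬝ᵥ C *ᵥ x
    have hb : b = 0 := by
      by_contra hb
      refine hw' ?_
      have : b • w' = A *ᵥ x + a • w := by linear_combination (norm := module) -hx'
      rw [← inv_smul_smul₀ hb w', this]
      exact Submodule.smul_mem _ _ (Submodule.add_mem_sup ⟨x, rfl⟩ (Submodule.smul_mem _ _ (Submodule.mem_span_singleton_self w)))
    rw [hb, zero_smul, sub_zero] at hx'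
    have ha : a = 0 := by
      by_contra ha
      refine hw ⟨(-a⁻¹) • x, ?_⟩
      rw [mulVecLin_apply, mulVec_smul, eq_neg_of_add_eq_zero_left hx', neg_smul, smul_neg, neg_neg,
        inv_smul_smul₀ ha]
    simpa [ha] using hx'
  · rw [add_mulVec, ← mulVec_mulVec, hx, zero_add, wedge, sub_mulVec, outer_mulVec, outer_mulVec, ← hc]
    intro e
    refine hw' ?_
    by_cases hb : w ⬝ᵥ c = 0
    · rw [hb, zero_smul, sub_zero, smul_eq_zero] at e
      exact absurd (zero_mem _) (e.resolve_left hw0 ▸ hw)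
    · rw [← inv_smul_smul₀ hb w', ← sub_eq_zero.1 e]
      exact Submodule.smul_mem _ _ (Submodule.mem_sup_right
        (Submodule.smul_mem _ _ (Submodule.mem_span_singleton_self w)))

theorem det_alt_three {Y : Matrix (Fin 3) (Fin 3) F} (h : IsAltM Y) : Y.det = 0 := by
  have hd : ∀ i, Y i i = 0 := fun i => by simpa using h (Pi.single i 1)
  have ho : ∀ i j, Y j i = -Y i j := fun i j => by simpa using h.flip (Pi.single j 1) (Pi.single i 1)
  rw [det_fin_three, hd 0, hd 1, hd 2, ho 0 1, ho 0 2, ho 1 2]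
  ring

/-- A vector off a line in the kernel of a functional. -/
theorem exists_second (hk : 3 ≤ k) {e q : Fin k → F} (he : e ≠ 0) :
    ∃ f : Fin k → F, f ≠ 0 ∧ q ⬝ᵥ f = 0 ∧ ∀ a : F, f ≠ a • e := by
  obtain ⟨i, hi⟩ := Function.ne_iff.1 he
  obtain ⟨f, hf, hf'⟩ := exists_perp ![q, Pi.single i 1] (by omega)
  refine ⟨f, hf, hf' 0, fun a e' => hf ?_⟩
  have : f i = 0 := by simpa using hf' 1
  rw [e', Pi.smul_apply, smul_eq_mul] at this
  rw [e', (mul_eq_zero.1 this).resolve_right hi, zero_smul]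

theorem plus_step (hk : 3 ≤ k) {A Y : Matrix (Fin k) (Fin k) F} (hA : IsUnit A.det) (hY : IsAltM Y)
    (hY0 : Y ≠ 0) {r : F} (hr : r ≠ 0) (h1 : r = 1 → ∃ c : F, A = c • 1) :
    ∃ S, IsAltM S ∧ (1 + S * Y).det = r * r ∧ NonScalar ((1 + S * Y) * A) := by
  obtain ⟨e, e', hy⟩ := exists_entry hY0
  set y := e ⬝ᵥ Y *ᵥ e' with hydef
  have he : e ≠ 0 := fun h => hy (by rw [hydef, h, zero_dotProduct])
  set q := e ᵥ* Y with hq
  have hqe : q ⬝ᵥ e = 0 := by rw [hq, ← dotProduct_mulVec]; exact hY e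
  have hqe' : q ⬝ᵥ e' = y := by rw [hq, ← dotProduct_mulVec]
  obtain ⟨f, hf, hqf, hfe⟩ := exists_second (q := q) (by omega) he
  set s := (1 - r) / y with hs
  have hsy : s * y = 1 - r := div_mul_cancel₀ _ hy
  have hgen : ∀ (v : Fin k → F) (t : F), q ⬝ᵥ v = t →
      (1 + (s • wedge e v) * Y).det = (1 - s * t) * (1 - s * t) ∧
      (s • wedge e v) * Y = vecMulVec e (s • (v ᵥ* Y)) + vecMulVec v (-(s • q)) := by
    intro v t hv
    have hm : (s • wedge e v) * Y = vecMulVec e (s • (v ᵥ* Y)) + vecMulVec v (-(s • q)) := by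
      simp only [wedge, Matrix.smul_mul, sub_mul, vecMulVec_mul, vecMulVec_neg, vecMulVec_smul, smul_sub, hq]
      abel
    refine ⟨?_, hm⟩
    rw [hm, det_rank_two]
    simp only [smul_dotProduct, neg_dotProduct, ← dotProduct_mulVec, hY v, hqe, hv, smul_eq_mul,
      IsAltM.flip hY v e]
    rw [show e ⬝ᵥ Y *ᵥ v = t by rw [← hv, hq, ← dotProduct_mulVec]]
    ring
  have hfix : ∀ v w : Fin k → F, ∃ u, u ≠ 0 ∧ q ⬝ᵥ u = 0 ∧ (v ᵥ* Y) ⬝ᵥ u = 0 ∧ (w ᵥ* Y) ⬝ᵥ u = 0 := by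
    intro v w
    rcases hk.lt_or_eq with hk4 | hk3
    · obtain ⟨u, hu, hu'⟩ := exists_perp ![q, v ᵥ* Y, w ᵥ* Y] hk4
      exact ⟨u, hu, hu' 0, hu' 1, hu' 2⟩
    · subst hk3
      obtain ⟨u, hu, hu'⟩ := exists_mulVec_eq_zero_iff.2 (det_alt_three hY)
      refine ⟨u, hu, ?_, ?_, ?_⟩ <;> simp [hq, ← dotProduct_mulVec, hu']
  have hindep : ∀ {a b : F}, a • e = b • f → b = 0 := by
    intro a b h
    by_contra hb
    exact hfe (b⁻¹ * a) (by rw [mul_smul, h, inv_smul_smul₀ hb])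
  by_cases hr1 : r = 1
  · obtain ⟨c, hc⟩ := h1 hr1
    refine ⟨wedge e f, wedge_alt e f, ?_, fun c' h => ?_⟩
    · have hm : wedge e f * Y = vecMulVec e (f ᵥ* Y) + vecMulVec f (-q) := by
        simp only [wedge, sub_mul, vecMulVec_mul, vecMulVec_neg, hq]; abel
      rw [hm, det_rank_two]
      simp only [neg_dotProduct, ← dotProduct_mulVec, hY f, hqe, hqf, IsAltM.flip hY f e]
      rw [show e ⬝ᵥ Y *ᵥ f = 0 by rw [dotProduct_mulVec, ← hq, hqf], hr1]
      ring
    · have hm : wedge e f * Y = vecMulVec e (f ᵥ* Y) + vecMulVec f (-q) := by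
        simp only [wedge, sub_mul, vecMulVec_mul, vecMulVec_neg, hq]; abel
      obtain ⟨u, hu, huq, huf, -⟩ := hfix f f
      have hc0 : c ≠ 0 := scalar_ne_zero (M := 1) (by omega) hA (by simp) (by rw [one_mul]; exact hc)
      rw [hc, Matrix.mul_smul, mul_one, hm] at h
      have k1 := congrArg (· *ᵥ u) h
      simp only [smul_mulVec, add_mulVec, one_mulVec, outer_mulVec, huf, neg_dotProduct, huq, neg_zero,
        zero_smul, add_zero] at k1
      rw [← smul_left_injective F hu k1] at h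
      have k2 := congrArg (· *ᵥ e') h
      simp only [smul_mulVec, add_mulVec, one_mulVec, outer_mulVec, neg_dotProduct, hqe'] at k2
      have k3 : ((f ᵥ* Y) ⬝ᵥ e') • e = y • f := by
        have := smul_right_injective (Fin k → F) hc0 k2
        linear_combination (norm := module) this
      exact hy (hindep k3)
  · have hd : ∀ v : Fin k → F, q ⬝ᵥ v = y → (1 + (s • wedge e v) * Y).det = r * r := fun v hv => by
      rw [(hgen v y hv).1, hsy, sub_sub_cancel]
    have hv' : q ⬝ᵥ (e' + f) = y := by rw [dotProduct_add, hqe', hqf, add_zero]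
    by_contra hcon
    push Not at hcon
    simp only [NonScalar, not_forall, not_not] at hcon
    obtain ⟨c, hc⟩ := hcon _ ((wedge_alt e e').smul s) (hd e' hqe')
    obtain ⟨c', hc'⟩ := hcon _ ((wedge_alt e (e' + f)).smul s) (hd _ hv')
    obtain ⟨u, hu, huq, hu1, hu2⟩ := hfix e' (e' + f)
    have hd0 : (1 + (s • wedge e e') * Y).det ≠ 0 := by rw [hd e' hqe']; exact mul_ne_zero hr hr
    have heq := fixed_pair hA (scalar_ne_zero (by omega) hA hd0 hc) hc hc' (u := u)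
      (by
        rw [(hgen e' y hqe').2]
        simp only [add_mulVec, one_mulVec, outer_mulVec, neg_dotProduct, smul_dotProduct, huq, hu1, smul_zero,
          neg_zero, zero_smul, add_zero]
        exact hu)
      (by rw [(hgen e' y hqe').2, (hgen _ y hv').2]
          simp only [add_mulVec, outer_mulVec, neg_dotProduct, smul_dotProduct, huq, hu1, hu2, smul_zero,
            neg_zero, zero_smul, add_zero])
    rw [(hgen e' y hqe').2, (hgen _ y hv').2] at heq
    have k2 := congrArg (· *ᵥ e') heq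
    simp only [add_mulVec, outer_mulVec, smul_dotProduct, neg_dotProduct, add_vecMul, smul_add,
      add_dotProduct, hqe', smul_eq_mul] at k2
    have k3 : (s * ((f ᵥ* Y) ⬝ᵥ e')) • e = (s * y) • f := by
      linear_combination (norm := module) -k2
    refine sub_ne_zero.2 (Ne.symm hr1) ?_
    rw [← hsy]
    exact hindep k3

theorem plus_det (hk : 3 ≤ k) {A C : Matrix (Fin k) (Fin k) F} (hA : IsUnit A.det) (hC : C ≠ 0)
    (hrel : ∀ x, (A *ᵥ x) ⬝ᵥ (C *ᵥ x) = 0) (hsq : IsSquare A.det) {d : F} (hd : d ≠ 0) (hdsq : IsSquare d) :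
    ∃ S, IsAltM S ∧ (A + S * C).det = d ∧ NonScalar (A + S * C) := by
  by_cases h0 : A.det = d ∧ NonScalar A
  · exact ⟨0, fun x => by simp, by simpa using h0.1, by simpa using h0.2⟩
  have hY : IsAltM (C * A⁻¹) := fun x => by
    have h := hrel (A⁻¹ *ᵥ x)
    rwa [mulVec_mulVec, mulVec_mulVec, mul_nonsing_inv A hA, one_mulVec] at h
  obtain ⟨a, ha⟩ := hsq
  obtain ⟨b, hb⟩ := hdsq
  have ha0 : a ≠ 0 := fun e => hA.ne_zero (by rw [ha, e, zero_mul])
  have hb0 : b ≠ 0 := fun e => hd (by rw [hb, e, zero_mul])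
  obtain ⟨S, hS, hdet, hns⟩ := plus_step hk hA hY (quot_ne_zero hA hC) (r := b / a) (div_ne_zero hb0 ha0) (by
    intro e
    rw [div_eq_one_iff_eq ha0] at e
    simp only [NonScalar, not_and, not_forall, not_not] at h0
    exact h0 (by rw [ha, hb, e]))
  refine ⟨S, hS, ?_, by rwa [quot_mul hA S] at hns⟩
  rw [← quot_mul hA S, det_mul, hdet, ha, hb]
  field_simp

theorem odd_raise {A C : Matrix (Fin k) (Fin k) F} {ζ : Fin k → F}
    (hinj : ∀ x, A *ᵥ x = 0 → C *ᵥ x = 0 → x = 0) (hζ : ∀ x, A *ᵥ x = 0 → ζ ⬝ᵥ x = 0) (h : A.det = 0) :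
    ∃ b : Fin k → F, finrank F (LinearMap.ker (A - vecMulVec b ((2 : F) • ζ + b ᵥ* C)).mulVecLin) <
      finrank F (LinearMap.ker A.mulVecLin) := by
  obtain ⟨⟨x₀, hx0, hx⟩, hr⟩ := exists_kernel h
  obtain ⟨w, -, hw, hw'⟩ := exists_notMem_pair (fun le => hr (top_unique le))
    (top_not_le_perp (fun e => hx0 (hinj x₀ hx e)))
  refine ⟨w, finrank_ker_lt (fun x hx' => ?_) hx ?_⟩
  · rw [sub_mulVec, outer_mulVec, sub_eq_zero] at hx'
    by_cases hc : ((2 : F) • ζ + w ᵥ* C) ⬝ᵥ x = 0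
    · rw [hx', hc, zero_smul]
    · refine absurd ⟨(((2 : F) • ζ + w ᵥ* C) ⬝ᵥ x)⁻¹ • x, ?_⟩ hw
      rw [mulVecLin_apply, mulVec_smul, hx', inv_smul_smul₀ hc]
  · rw [sub_mulVec, outer_mulVec, hx, zero_sub, neg_ne_zero, smul_ne_zero_iff]
    refine ⟨?_, fun e => hw (by rw [e]; exact zero_mem _)⟩
    rw [add_dotProduct, smul_dotProduct, hζ x₀ hx, smul_zero, zero_add, ← dotProduct_mulVec]
    exact fun e => hw' (LinearMap.mem_ker.2 (by show (C *ᵥ x₀) ⬝ᵥ w = 0; rwa [dotProduct_comm]))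

theorem odd_det (h2 : (2 : F) ≠ 0) (hk : 3 ≤ k) {A C : Matrix (Fin k) (Fin k) F} {ζ : Fin k → F}
    (hA : IsUnit A.det) (hζ : ζ ≠ 0) (hrel : ∀ x, (ζ ⬝ᵥ x) * (ζ ⬝ᵥ x) + (A *ᵥ x) ⬝ᵥ (C *ᵥ x) = 0)
    (hsq : IsSquare A.det) {d : F} (hd : d ≠ 0) (hdsq : IsSquare d) :
    ∃ b : Fin k → F, (A - vecMulVec b ((2 : F) • ζ + b ᵥ* C)).det = d ∧
      NonScalar (A - vecMulVec b ((2 : F) • ζ + b ᵥ* C)) := by
  by_cases h0 : A.det = d ∧ NonScalar A
  · exact ⟨0, by simpa using h0.1, by simpa using h0.2⟩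
  set η := ζ ᵥ* A⁻¹ with hη
  set Y := C * A⁻¹ with hY
  have hη0 : η ≠ 0 := fun e => hζ (by
    have := congrArg (· ᵥ* A) e
    simpa [hη, vecMul_vecMul, nonsing_inv_mul A hA] using this)
  have hrelY : ∀ x, (η ⬝ᵥ x) * (η ⬝ᵥ x) + x ⬝ᵥ Y *ᵥ x = 0 := fun x => by
    have h := hrel (A⁻¹ *ᵥ x)
    rwa [mulVec_mulVec, mulVec_mulVec, mul_nonsing_inv A hA, one_mulVec, dotProduct_mulVec ζ, ← hη] at h
  set M : (Fin k → F) → Matrix (Fin k) (Fin k) F :=
    fun b => 1 + vecMulVec b (-((2 : F) • η + b ᵥ* Y)) with hMdef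
  have hM : ∀ b, M b * A = A - vecMulVec b ((2 : F) • ζ + b ᵥ* C) := by
    intro b
    rw [hMdef, add_mul, one_mul, vecMulVec_mul, neg_vecMul, add_vecMul, smul_vecMul, hη, vecMul_vecMul,
      nonsing_inv_mul A hA, vecMul_one, hY, vecMul_vecMul, mul_assoc, nonsing_inv_mul A hA, mul_one,
      vecMulVec_neg, sub_eq_add_neg]
  have hv : ∀ b, (-((2 : F) • η + b ᵥ* Y)) ⬝ᵥ b = (1 - η ⬝ᵥ b) * (1 - η ⬝ᵥ b) - 1 := by
    intro b
    rw [neg_dotProduct, add_dotProduct, smul_dotProduct, ← dotProduct_mulVec b Y b, smul_eq_mul]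
    linear_combination (-1 : F) * hrelY b
  have hdet : ∀ b, (M b).det = (1 - η ⬝ᵥ b) * (1 - η ⬝ᵥ b) := fun b => by
    rw [hMdef, det_rank_one, hv]; ring
  obtain ⟨i, hi⟩ := Function.ne_iff.1 hη0
  obtain ⟨a, ha⟩ := hsq
  obtain ⟨c₁, hb⟩ := hdsq
  have ha0 : a ≠ 0 := fun e => hA.ne_zero (by rw [ha, e, zero_mul])
  have hc10 : c₁ ≠ 0 := fun e => hd (by rw [hb, e, zero_mul])
  set ρ := c₁ / a with hρ
  have hfin : ∀ b, (M b).det = ρ * ρ → NonScalar (M b * A) → ∃ b : Fin k → F,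
      (A - vecMulVec b ((2 : F) • ζ + b ᵥ* C)).det = d ∧
      NonScalar (A - vecMulVec b ((2 : F) • ζ + b ᵥ* C)) := by
    intro b h1 h2
    refine ⟨b, ?_, by rw [← hM]; exact h2⟩
    rw [← hM, det_mul, h1, ha, hb, hρ]
    field_simp
  by_cases hρ1 : ρ * ρ = 1
  · have hAd : A.det = d := by
      rw [hρ] at hρ1
      field_simp at hρ1
      rw [ha, hb]; linear_combination -hρ1
    simp only [NonScalar, not_and, not_forall, not_not] at h0
    obtain ⟨c, hc⟩ := h0 hAd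
    obtain ⟨e, he, he'⟩ := exists_perp ![η] (by omega)
    have hηe : η ⬝ᵥ e = 0 := he' 0
    obtain ⟨b, hb0, hηb, hvb⟩ : ∃ b, b ≠ 0 ∧ η ⬝ᵥ b = 0 ∧ (2 : F) • η + b ᵥ* Y ≠ 0 := by
      by_cases hv0 : (2 : F) • η + e ᵥ* Y = 0
      · refine ⟨(2 : F) • e, smul_ne_zero h2 he, by rw [dotProduct_smul, hηe, smul_zero], fun h => ?_⟩
        rw [smul_vecMul, eq_neg_of_add_eq_zero_right hv0] at h
        refine smul_ne_zero h2 hη0 ?_
        linear_combination (norm := module) -h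
      · exact ⟨e, he, hηe, hv0⟩
    refine hfin b (by rw [hdet, hηb, hρ1]; ring) fun c' h => ?_
    have hc0 : c ≠ 0 := scalar_ne_zero (M := 1) (by omega) hA (by simp) (by rw [one_mul]; exact hc)
    rw [hc, Matrix.mul_smul, mul_one, hMdef] at h
    obtain ⟨u, hu, hu'⟩ := exists_perp ![(2 : F) • η + b ᵥ* Y] (by omega)
    have hu0 : ((2 : F) • η + b ᵥ* Y) ⬝ᵥ u = 0 := hu' 0
    have k1 := congrArg (· *ᵥ u) h
    simp only [smul_mulVec, add_mulVec, one_mulVec, outer_mulVec, neg_dotProduct, hu0, neg_zero, zero_smul,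
      add_zero] at k1
    rw [← smul_left_injective F hu k1] at h
    have k2 := add_eq_left.1 (smul_right_injective _ hc0 h)
    rw [vecMulVec_eq_zero] at k2
    exact k2.elim hb0 (neg_ne_zero.2 hvb)
  · set t := (1 - ρ) / η i with ht
    set b : Fin k → F := Pi.single i t with hbdef
    have hηb : η ⬝ᵥ b = 1 - ρ := by rw [hbdef, dotProduct_single, ht, mul_div_cancel₀ _ hi]
    obtain ⟨e, he, he'⟩ := exists_perp ![η] (by omega)
    have hηe : η ⬝ᵥ e = 0 := he' 0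
    have hηb' : η ⬝ᵥ (b + e) = 1 - ρ := by rw [dotProduct_add, hηb, hηe, add_zero]
    have hd' : ∀ b, η ⬝ᵥ b = 1 - ρ → (M b).det = ρ * ρ := fun b h => by rw [hdet, h, sub_sub_cancel]
    by_contra hcon
    have hs : ∀ b, η ⬝ᵥ b = 1 - ρ → ∃ c : F, M b * A = c • 1 := by
      intro b h
      by_contra hn
      push Not at hn
      exact hcon (hfin b (hd' b h) hn)
    obtain ⟨c, hc⟩ := hs b hηb
    obtain ⟨c', hc'⟩ := hs _ hηb'
    obtain ⟨u, hu, hu'⟩ := exists_perp ![-((2 : F) • η + b ᵥ* Y), -((2 : F) • η + (b + e) ᵥ* Y)] (by omega)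
    have hu1 : (-((2 : F) • η + b ᵥ* Y)) ⬝ᵥ u = 0 := hu' 0
    have hu2 : (-((2 : F) • η + (b + e) ᵥ* Y)) ⬝ᵥ u = 0 := hu' 1
    have hρ0 : ρ ≠ 0 := div_ne_zero hc10 ha0
    have heq := fixed_pair hA (scalar_ne_zero (by omega) hA (by rw [hd' b hηb]; exact mul_ne_zero hρ0 hρ0) hc)
      hc hc' (u := u) (by simp only [add_mulVec, one_mulVec, outer_mulVec, hu1, zero_smul, add_zero]; exact hu)
      (by simp only [outer_mulVec, hu1, hu2, zero_smul])
    have k := congrArg (· *ᵥ b) heq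
    simp only [outer_mulVec] at k
    rw [hv, hηb, sub_sub_cancel] at k
    set β := (-((2 : F) • η + (b + e) ᵥ* Y)) ⬝ᵥ b
    have k2 : η ⬝ᵥ ((ρ * ρ - 1 - β) • b) = η ⬝ᵥ (β • e) := by
      congr 1; linear_combination (norm := module) k
    rw [dotProduct_smul, dotProduct_smul, hηe, hηb, smul_zero, smul_eq_mul, mul_eq_zero] at k2
    have hr1 : ρ ≠ 1 := fun h => hρ1 (by rw [h, one_mul])
    have hβ : ρ * ρ - 1 = β := sub_eq_zero.1 (k2.resolve_right (sub_ne_zero.2 (Ne.symm hr1)))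
    rw [← hβ] at k
    have : (ρ * ρ - 1) • e = 0 := by linear_combination (norm := module) -k
    exact he ((smul_eq_zero.1 this).resolve_left (sub_ne_zero.2 hρ1))

end Orthogonal

end Cfsg.Agent.Lib.ThompsonSquare
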