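import Cfsg.Agent.Lib.ThompsonSquare.Cyclic
import Cfsg.Agent.Lib.ThompsonSquare.Exceptional
import Cfsg.Agent.Lib.ThompsonSquare.Classical.Moves
import Cfsg.Agent.Lib.G2Gauss.Product

/-!
From a Gauss decomposition and freely acting Levi classes to a class whose square is everything.
-/

set_option autoImplicit false

namespace Cfsg.Agent.Lib.ThompsonSquare

open Matrix Cfsg.Agent.Lib.Sourour
open scoped commutatorElement

/-- Shears centralised by no element of a conjugacy class of the Levi subgroup lie in the commutator subgroup. -/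
theorem le_commutator_of_free {O : Type*} [Group O] [Finite O] (U : Subgroup O) {x : O}
    (hn : ∀ p ∈ U, x * p * x⁻¹ ∈ U) (hf : ∀ p ∈ U, Commute x p → p = 1) : U ≤ commutator O := by
  intro v hv
  obtain ⟨p, -, e⟩ := Cfsg.Agent.Lib.G2Gauss.exists_conj_of_free U hn hf hv
  have hv' : v = ⁅p, x⁆ := by
    rw [commutatorElement_def, ← e, mul_assoc, mul_inv_cancel, mul_one]
  rw [hv', commutator_def]
  exact Subgroup.commutator_mem_commutator (Subgroup.mem_top p) (Subgroup.mem_top x)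

variable {F : Type*} [Field F] {n : ℕ}

/-- The data: `Up`, `Dn` normalised by a Levi subgroup, freely acted on by the class of `c₀`. -/
theorem classSquare_datum {O : Type*} [Group O] [Finite O] {H : Type*} [Group H] (Γ : Subgroup O)
    (hΓ : commutator O ≤ Γ) (ℓ : H →* O) (Up Dn : Subgroup O) (c₀ : H) (hc₀ : ℓ c₀ ∈ Γ) (Sp : Subgroup H)
    (hSp : ∀ S ∈ Sp, ℓ S ∈ Γ) (Target : H → Prop)
    (hnU : ∀ a : H, ∀ p ∈ Up, ℓ a * p * (ℓ a)⁻¹ ∈ Up) (hnD : ∀ a : H, ∀ p ∈ Dn, ℓ a * p * (ℓ a)⁻¹ ∈ Dn)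
    (hfU : ∀ h : H, ∀ p ∈ Up, Commute (ℓ (h * c₀ * h⁻¹)) p → p = 1)
    (hfD : ∀ h : H, ∀ p ∈ Dn, Commute (ℓ (h * c₀ * h⁻¹)) p → p = 1)
    (two : ∀ a, Target a → ∃ S ∈ Sp, ∃ T ∈ Sp, a = S * c₀ * S⁻¹ * (T * c₀ * T⁻¹))
    (real : ∃ r ∈ Γ, r * ℓ c₀ * r⁻¹ = (ℓ c₀)⁻¹)
    (red : ∀ g : Γ, g ∉ Subgroup.center Γ →
      ∃ k ∈ Γ, ∃ v ∈ Dn, ∃ a : H, ∃ q ∈ Up, Target a ∧ k * g.1 * k⁻¹ = v * ℓ a * q) :
    ClassSquare (Γ ⧸ Subgroup.center Γ) := by
  have hDn : Dn ≤ Γ := (le_commutator_of_free Dn (fun p hp => hnD c₀ p hp)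
    (fun p hp => by simpa using hfD 1 p hp)).trans hΓ
  have hUp : Up ≤ Γ := (le_commutator_of_free Up (fun p hp => hnU c₀ p hp)
    (fun p hp => by simpa using hfU 1 p hp)).trans hΓ
  refine ⟨((⟨ℓ c₀, hc₀⟩ : Γ) : Γ ⧸ Subgroup.center Γ), fun g => ?_⟩
  obtain ⟨g, rfl⟩ := QuotientGroup.mk_surjective g
  by_cases hg : g ∈ Subgroup.center Γ
  · obtain ⟨r, hr, e⟩ := real
    refine ⟨1, ((⟨r, hr⟩ : Γ) : Γ ⧸ Subgroup.center Γ), ?_⟩
    rw [(QuotientGroup.eq_one_iff g).2 hg]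
    refine congrArg QuotientGroup.mk (a₁ := (1 : Γ)) (a₂ := 1 * ⟨ℓ c₀, hc₀⟩ * 1⁻¹ * (⟨r, hr⟩ * ⟨ℓ c₀, hc₀⟩ * ⟨r, hr⟩⁻¹)) ?_
    refine Subtype.ext ?_
    show (1 : O) = 1 * ℓ c₀ * 1⁻¹ * (r * ℓ c₀ * r⁻¹)
    rw [e]; simp
  · obtain ⟨k, hk, v, hv, a, q, hq, hT, e⟩ := red g hg
    obtain ⟨S, hS, T, hT', rfl⟩ := two a hT
    set x := ℓ (S * c₀ * S⁻¹) with hx
    set y := ℓ (T * c₀ * T⁻¹) with hy
    obtain ⟨p, hp, hpx⟩ := Cfsg.Agent.Lib.G2Gauss.exists_conj_of_free Dn (x := x)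
      (fun z hz => hnD _ z hz) (hfD S) hv
    obtain ⟨p', hp', hpy⟩ := Cfsg.Agent.Lib.G2Gauss.exists_conj_of_free Up (x := y)
      (fun z hz => hnU _ z hz) (hfU T) (hnU (T * c₀ * T⁻¹) q hq)
    have hX : k⁻¹ * p * ℓ S ∈ Γ := mul_mem (mul_mem (inv_mem hk) (hDn hp)) (hSp S hS)
    have hY : k⁻¹ * p' * ℓ T ∈ Γ := mul_mem (mul_mem (inv_mem hk) (hUp hp')) (hSp T hT')
    refine ⟨((⟨_, hX⟩ : Γ) : Γ ⧸ Subgroup.center Γ), ((⟨_, hY⟩ : Γ) : Γ ⧸ Subgroup.center Γ), ?_⟩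
    refine congrArg QuotientGroup.mk (a₁ := g)
      (a₂ := ⟨_, hX⟩ * ⟨ℓ c₀, hc₀⟩ * ⟨_, hX⟩⁻¹ * (⟨_, hY⟩ * ⟨ℓ c₀, hc₀⟩ * ⟨_, hY⟩⁻¹)) ?_
    refine Subtype.ext ?_
    show g.1 = k⁻¹ * p * ℓ S * ℓ c₀ * (k⁻¹ * p * ℓ S)⁻¹ * (k⁻¹ * p' * ℓ T * ℓ c₀ * (k⁻¹ * p' * ℓ T)⁻¹)
    have key : v * ℓ (S * c₀ * S⁻¹ * (T * c₀ * T⁻¹)) * q = p * x * p⁻¹ * (p' * y * p'⁻¹) := by
      rw [← hpx, ← hpy, map_mul, ← hx, ← hy]; group
    calc g.1 = k⁻¹ * (k * g.1 * k⁻¹) * k := by group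
      _ = k⁻¹ * (p * x * p⁻¹ * (p' * y * p'⁻¹)) * k := by rw [e, key]
      _ = _ := by simp only [hx, hy, map_mul, map_inv]; group

/-- No non-zero shear in `P` is fixed by the congruence with `x`. -/
def Free {k : ℕ} (P : Matrix (Fin k) (Fin k) F → Prop) (x : Matrix (Fin k) (Fin k) F) : Prop :=
  ∀ Z, P Z → x * Z * xᵀ = Z → Z = 0

theorem free_conj {k : ℕ} {P : Matrix (Fin k) (Fin k) F → Prop} (hP : ∀ K Z, P Z → P (K * Z * Kᵀ))
    {M N : Matrix (Fin k) (Fin k) F} (h : Sim M N) (hN : Free P N) : Free P M := by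
  obtain ⟨K, hK, e⟩ := h
  intro Z hZ hfix
  have hKt : IsUnit Kᵀ.det := by rwa [det_transpose]
  have e' : K⁻¹ * M = N * K⁻¹ := by
    calc K⁻¹ * M = K⁻¹ * (M * K) * K⁻¹ := by rw [mul_assoc, mul_assoc, mul_nonsing_inv K hK, mul_one]
      _ = _ := by rw [e, ← mul_assoc, nonsing_inv_mul K hK, one_mul]
  have e'' : Mᵀ * (K⁻¹)ᵀ = (K⁻¹)ᵀ * Nᵀ := by rw [← transpose_mul, ← transpose_mul, e']
  have h0 := hN _ (hP K⁻¹ Z hZ) (by
    calc N * (K⁻¹ * Z * (K⁻¹)ᵀ) * Nᵀ = (N * K⁻¹) * Z * ((K⁻¹)ᵀ * Nᵀ) := by simp only [mul_assoc]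
      _ = K⁻¹ * (M * Z * Mᵀ) * (K⁻¹)ᵀ := by rw [← e', ← e'']; simp only [mul_assoc]
      _ = _ := by rw [hfix])
  calc Z = K * (K⁻¹ * Z * (K⁻¹)ᵀ) * Kᵀ := by
        rw [transpose_nonsing_inv, ← mul_assoc, ← mul_assoc, mul_nonsing_inv K hK, one_mul, mul_assoc,
          nonsing_inv_mul _ hKt, mul_one]
    _ = 0 := by rw [h0, mul_zero, zero_mul]

theorem free_lower {k : ℕ} {P : Matrix (Fin k) (Fin k) F → Prop} {N : Matrix (Fin k) (Fin k) F}
    (hl : ∀ i j : Fin k, i < j → N i j = 0)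
    (h : ∀ Z, P Z → ∀ i j, N i i * N j j = 1 → Z i j = 0) : Free P N := by
  intro Z hZ hfix
  suffices key : ∀ s : ℕ, ∀ i j : Fin k, i.val + j.val = s → Z i j = 0 from Matrix.ext fun i j => key _ i j rfl
  intro s
  induction s using Nat.strong_induction_on with
  | h s ih =>
    intro i j hs
    have hsum : (N * Z * Nᵀ) i j = N i i * Z i j * N j j := by
      rw [Matrix.mul_apply, Finset.sum_eq_single j]
      · rw [Matrix.mul_apply, Finset.sum_eq_single i, transpose_apply]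
        · intro a _ ha
          rcases lt_or_gt_of_ne ha with h' | h'
          · rw [ih (a.val + j.val) (by have : a.val < i.val := h'; omega) a j rfl, mul_zero]
          · rw [hl i a h', zero_mul]
        · simp
      · intro b _ hb
        rcases lt_or_gt_of_ne hb with h' | h'
        · rw [Matrix.mul_apply, Finset.sum_eq_zero, zero_mul]
          intro a _
          rcases le_or_gt a i with ha | ha
          · rw [ih (a.val + b.val) (by have : a.val ≤ i.val := ha; have : b.val < j.val := h'; omega) a b rfl,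
              mul_zero]
          · rw [hl i a ha, zero_mul]
        · rw [transpose_apply, hl j b h', mul_zero]
      · simp
    rw [hfix] at hsum
    by_cases hd : N i i * N j j = 1
    · exact h Z hZ i j hd
    · have : (N i i * N j j - 1) * Z i j = 0 := by linear_combination -hsum
      exact (mul_eq_zero.1 this).resolve_left (sub_ne_zero.2 hd)

/-- `s` times the cyclic element. -/
noncomputable def cs (n : ℕ) (s b : Fˣ) : GL (Fin (n + 2)) F :=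
  GeneralLinearGroup.mkOfDetNeZero ((s : F) • cyN n b) (by
    rw [det_smul, det_cyN, mul_one]; exact pow_ne_zero _ s.ne_zero)

theorem coe_cs (s b : Fˣ) : (cs n s b).1 = (s : F) • cyN n b := rfl

theorem det_cs (s b : Fˣ) : (cs n s b).1.det = (s : F) ^ (n + 2) := by
  rw [coe_cs, det_smul, det_cyN, mul_one, Fintype.card_fin]

theorem cs_lower (s b : Fˣ) (i j : Fin (n + 2)) (h : i < j) : (cs n s b).1 i j = 0 := by
  have h' : i.val < j.val := h
  simp [coe_cs, cyN, nf, h.ne, show ¬ j.val + 1 = i.val by omega]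

theorem cs_diag (s b : Fˣ) (i : Fin (n + 2)) : (cs n s b).1 i i = s * cyB n b i := by
  simp [coe_cs, cyN, nf]

theorem sim_cs (s b : Fˣ) (h : GL (Fin (n + 2)) F) :
    Sim (h * cs n s b * h⁻¹ : GL (Fin (n + 2)) F).1 (cs n s b).1 :=
  ⟨h.1, (isUnit_iff_isUnit_det _).1 h.isUnit, by rw [← Units.val_mul, ← Units.val_mul, inv_mul_cancel_right]⟩

theorem sim_cs_transpose (s b : Fˣ) (h : GL (Fin (n + 2)) F) :
    Sim ((h * cs n s b * h⁻¹ : GL (Fin (n + 2)) F).1)ᵀ (cs n s b).1 := by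
  have h1 : Sim ((h * cs n s b * h⁻¹ : GL (Fin (n + 2)) F).1)ᵀ (cs n s b).1ᵀ := by
    refine ⟨(h⁻¹ : GL (Fin (n + 2)) F).1ᵀ, by rw [det_transpose]; exact (isUnit_iff_isUnit_det _).1 (h⁻¹).isUnit, ?_⟩
    rw [← transpose_mul, ← transpose_mul, ← Units.val_mul, ← Units.val_mul, mul_assoc, ← mul_assoc h⁻¹ h,
      inv_mul_cancel, one_mul]
  refine sim_trans h1 ?_
  obtain ⟨u, hu⟩ := (Cfsg.Agent.Lib.TransposeConj.isConj_transpose (cs n s b).1).symm
  refine ⟨(u⁻¹).1, (isUnit_iff_isUnit_det _).1 (u⁻¹).isUnit, ?_⟩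
  have e : u.1 * (cs n s b).1ᵀ = (cs n s b).1 * u := hu
  calc (cs n s b).1ᵀ * (u⁻¹).1 = (u⁻¹).1 * (u.1 * (cs n s b).1ᵀ) * (u⁻¹).1 := by
        rw [← mul_assoc, Units.inv_mul, one_mul]
    _ = _ := by rw [e, mul_assoc, mul_assoc, Units.mul_inv, mul_one]

theorem two_cs (h4 : Four F) {s b : Fˣ} (hb1 : b ≠ 1) (hb2 : b * b ≠ 1) {a : GL (Fin (n + 2)) F}
    (hdet : a.1.det = (s : F) ^ (2 * (n + 2))) (ha : NonScalar a.1) :
    ∃ S T : GL (Fin (n + 2)) F, S.1.det = 1 ∧ T.1.det = 1 ∧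
      a = S * cs n s b * S⁻¹ * (T * cs n s b * T⁻¹) := by
  set σ : F := (((s * s)⁻¹ : Fˣ) : F) with hσ
  have hσs : σ * ((s : F) * s) = 1 := by rw [hσ, ← Units.val_mul, ← Units.val_mul, inv_mul_cancel, Units.val_one]
  have hdet' : (σ • a.1).det = 1 := by
    rw [det_smul, hdet, Fintype.card_fin, pow_mul, ← mul_pow, _root_.sq, hσs, one_pow]
  have hns : ∀ c : F, σ • a.1 ≠ c • 1 := fun c e => ha ((s : F) * s * c) (by
    have := congrArg (fun M => ((s : F) * s) • M) e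
    simpa only [smul_smul, mul_comm _ σ, hσs, one_smul] using this)
  obtain ⟨X, Y, hX, hY, e⟩ := split_cy h4 hb1 hb2 hdet' hns
  have hc : CY b (⟨cyN n b, det_cyN b⟩ : SpecialLinearGroup (Fin (n + 2)) F).1 := sim_refl _
  obtain ⟨S, hS⟩ := cy_conj hc hX
  obtain ⟨T, hT⟩ := cy_conj hc hY
  refine ⟨SpecialLinearGroup.toGL S, SpecialLinearGroup.toGL T, S.2, T.2, ?_⟩
  have conj : ∀ (U : SpecialLinearGroup (Fin (n + 2)) F) (Z : Matrix (Fin (n + 2)) (Fin (n + 2)) F),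
      Z * U.1 = U.1 * cyN n b →
      ((SpecialLinearGroup.toGL U * cs n s b * (SpecialLinearGroup.toGL U)⁻¹ : GL (Fin (n + 2)) F) : Matrix _ _ F)
        = (s : F) • Z := by
    intro U Z hZ
    rw [Units.val_mul, Units.val_mul, coe_cs]
    show U.1 * ((s : F) • cyN n b) * ((SpecialLinearGroup.toGL U)⁻¹).1 = _
    rw [Matrix.mul_smul, Matrix.smul_mul, ← hZ, mul_assoc]
    congr 1
    rw [show U.1 = (SpecialLinearGroup.toGL U).1 from rfl, Units.mul_inv, mul_one]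
  apply Units.ext
  rw [Units.val_mul, conj S X.1 hS, conj T Y.1 hT, Matrix.smul_mul, Matrix.mul_smul, smul_smul, ← e, smul_smul,
    mul_comm, hσs, one_smul]

/-- The transpose inverse. -/
def tinv {k : ℕ} : GL (Fin k) F →* GL (Fin k) F where
  toFun a := ⟨(a⁻¹ : GL (Fin k) F).1ᵀ, a.1ᵀ, by rw [← transpose_mul, Units.mul_inv, transpose_one],
    by rw [← transpose_mul, Units.inv_mul, transpose_one]⟩
  map_one' := Units.ext (by simp)
  map_mul' a b := Units.ext (by simp [transpose_mul])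

theorem coe_tinv {k : ℕ} (a : GL (Fin k) F) : (tinv a : Matrix (Fin k) (Fin k) F) = (a⁻¹ : GL (Fin k) F).1ᵀ := rfl

/-- The inverse of `cs` is conjugate to its transpose inverse by elements of every determinant. -/
theorem real_cs (s b : Fˣ) (u : Fˣ) : ∃ K : GL (Fin (n + 2)) F,
    K.1.det = u ∧ K * tinv (cs n s b) * K⁻¹ = (cs n s b)⁻¹ := by
  classical
  obtain ⟨K₀, hK₀⟩ := (Cfsg.Agent.Lib.TransposeConj.isConj_transpose ((cs n s b)⁻¹).1).symm
  have e₀ : K₀.1 * ((cs n s b)⁻¹).1ᵀ = ((cs n s b)⁻¹).1 * K₀ := hK₀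
  set d : Fˣ := u * (GeneralLinearGroup.det K₀)⁻¹
  let D : GL (Fin (n + 2)) F := GeneralLinearGroup.mkOfDetNeZero (diagonal (Function.update 1 0 (d : F))) (by
    rw [det_diagonal, Finset.prod_update_of_mem (Finset.mem_univ 0)]; simp)
  have hDc : Commute D (cs n s b) := by
    apply Units.ext
    show diagonal (Function.update 1 0 (d : F)) * ((s : F) • cyN n b)
      = ((s : F) • cyN n b) * diagonal (Function.update 1 0 (d : F))
    rw [Matrix.mul_smul, Matrix.smul_mul]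
    congr 1
    ext i j
    rw [diagonal_mul, mul_diagonal]
    by_cases hi : i = 0 <;> by_cases hj : j = 0
    · subst hi; subst hj; ring
    · subst hi; rw [(cyN_edge b j hj).1]; simp
    · subst hj; rw [(cyN_edge b i hi).2]; simp
    · simp [hi, hj]
  refine ⟨D * K₀, ?_, ?_⟩
  · rw [Units.val_mul, det_mul]
    show (diagonal (Function.update 1 0 (d : F))).det * _ = _
    rw [det_diagonal, Finset.prod_update_of_mem (Finset.mem_univ 0)]
    simp only [Finset.prod_const_one, Pi.one_apply, mul_one, d, Units.val_mul, Units.val_inv_eq_inv_val]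
    rw [GeneralLinearGroup.val_det_apply, mul_assoc, inv_mul_cancel₀ ((isUnit_iff_isUnit_det _).1 K₀.isUnit).ne_zero, mul_one]
  · have e1 : K₀ * tinv (cs n s b) = (cs n s b)⁻¹ * K₀ := Units.ext (by
      rw [Units.val_mul, Units.val_mul, coe_tinv]; exact e₀)
    rw [_root_.mul_inv_rev, mul_assoc D, e1]
    calc D * ((cs n s b)⁻¹ * K₀) * (K₀⁻¹ * D⁻¹) = D * (cs n s b)⁻¹ * D⁻¹ := by group
      _ = (cs n s b)⁻¹ * D * D⁻¹ := by rw [hDc.inv_right.eq]
      _ = _ := by group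

end Cfsg.Agent.Lib.ThompsonSquare
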