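import Cfsg.Agent.Lib.ThompsonSquare.Classical.Datum

/-!
Groups with two abelian shear subgroups exchanged by nothing in particular: the hyperbolic classical groups.
-/

set_option autoImplicit false

namespace Cfsg.Agent.Lib.ThompsonSquare

open Matrix Cfsg.Agent.Lib.Sourour

variable {F : Type*} [Field F] {k : ℕ}

/-- Upper shear. -/
def upM (Z : Matrix (Fin k) (Fin k) F) : Matrix (Fin k ⊕ Fin k) (Fin k ⊕ Fin k) F := fromBlocks 1 Z 0 1

/-- Lower shear. -/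
def dnM (Z : Matrix (Fin k) (Fin k) F) : Matrix (Fin k ⊕ Fin k) (Fin k ⊕ Fin k) F := fromBlocks 1 0 Z 1

/-- Levi element. -/
def lvM (a : GL (Fin k) F) : Matrix (Fin k ⊕ Fin k) (Fin k ⊕ Fin k) F := fromBlocks a.1 0 0 (tinv a).1

theorem upM_mul (Z W : Matrix (Fin k) (Fin k) F) : upM Z * upM W = upM (Z + W) := by
  simp [upM, fromBlocks_multiply, add_comm]

theorem dnM_mul (Z W : Matrix (Fin k) (Fin k) F) : dnM Z * dnM W = dnM (Z + W) := by
  simp [dnM, fromBlocks_multiply]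

theorem upM_zero : upM (0 : Matrix (Fin k) (Fin k) F) = 1 := fromBlocks_one

theorem dnM_zero : dnM (0 : Matrix (Fin k) (Fin k) F) = 1 := fromBlocks_one

theorem lvM_upM (a : GL (Fin k) F) (Z : Matrix (Fin k) (Fin k) F) :
    lvM a * upM Z * lvM a⁻¹ = upM (a.1 * Z * a.1ᵀ) := by
  rw [lvM, lvM, show (tinv a⁻¹).1 = a.1ᵀ by rw [coe_tinv, inv_inv]]
  simp [upM, fromBlocks_multiply, coe_tinv, ← transpose_mul, Units.mul_inv, -coe_units_inv]

theorem lvM_dnM (a : GL (Fin k) F) (Z : Matrix (Fin k) (Fin k) F) :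
    lvM a * dnM Z * lvM a⁻¹ = dnM ((a⁻¹).1ᵀ * Z * (a⁻¹).1) := by
  rw [lvM, lvM, show (tinv a⁻¹).1 = a.1ᵀ by rw [coe_tinv, inv_inv]]
  simp [dnM, fromBlocks_multiply, coe_tinv, ← transpose_mul, Units.mul_inv, -coe_units_inv]

/-- A hyperbolic classical group. -/
structure Hyp (O : Type*) [Group O] (F : Type*) [Field F] (k : ℕ) where
  P : Matrix (Fin k) (Fin k) F → Prop
  P_zero : P 0
  P_add : ∀ Z W, P Z → P W → P (Z + W)
  P_neg : ∀ Z, P Z → P (-Z)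
  P_smul : ∀ (c : F) Z, P Z → P (c • Z)
  P_congr : ∀ K Z, P Z → P (K * Z * Kᵀ)
  mat : O →* Matrix (Fin k ⊕ Fin k) (Fin k ⊕ Fin k) F
  inj : Function.Injective mat
  exUp : ∀ Z, P Z → ∃ g, mat g = upM Z
  exDn : ∀ Z, P Z → ∃ g, mat g = dnM Z
  lev : GL (Fin k) F →* O
  mat_lev : ∀ a, mat (lev a) = lvM a
  low : ∀ g, IsUnit (mat g).toBlocks₁₁.det → P ((mat g).toBlocks₂₁ * (mat g).toBlocks₁₁⁻¹)
  tri : ∀ g, (mat g).toBlocks₂₁ = 0 →
    (mat g).toBlocks₂₂ = ((mat g).toBlocks₁₁⁻¹)ᵀ ∧ IsUnit (mat g).toBlocks₁₁.det ∧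
      P ((mat g).toBlocks₁₁⁻¹ * (mat g).toBlocks₁₂)

namespace Hyp

variable {O : Type*} [Group O] (H : Hyp O F k)

theorem mat_inv_up {g : O} {Z : Matrix (Fin k) (Fin k) F} (h : H.mat g = upM Z) : H.mat g⁻¹ = upM (-Z) := by
  refine left_inv_eq_right_inv (a := H.mat g) (by rw [← map_mul, inv_mul_cancel, map_one]) ?_
  rw [h, upM_mul, add_neg_cancel, upM_zero]

theorem mat_inv_dn {g : O} {Z : Matrix (Fin k) (Fin k) F} (h : H.mat g = dnM Z) : H.mat g⁻¹ = dnM (-Z) := by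
  refine left_inv_eq_right_inv (a := H.mat g) (by rw [← map_mul, inv_mul_cancel, map_one]) ?_
  rw [h, dnM_mul, add_neg_cancel, dnM_zero]

/-- Upper shears. -/
def upGroup : Subgroup O where
  carrier := {g | ∃ Z, H.P Z ∧ H.mat g = upM Z}
  one_mem' := ⟨0, H.P_zero, by rw [map_one, upM_zero]⟩
  mul_mem' := fun {a b} ⟨Z, hZ, e⟩ ⟨W, hW, e'⟩ => ⟨Z + W, H.P_add _ _ hZ hW, by rw [map_mul, e, e', upM_mul]⟩
  inv_mem' := fun {a} ⟨Z, hZ, e⟩ => ⟨-Z, H.P_neg _ hZ, H.mat_inv_up e⟩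

/-- Lower shears. -/
def dnGroup : Subgroup O where
  carrier := {g | ∃ Z, H.P Z ∧ H.mat g = dnM Z}
  one_mem' := ⟨0, H.P_zero, by rw [map_one, dnM_zero]⟩
  mul_mem' := fun {a b} ⟨Z, hZ, e⟩ ⟨W, hW, e'⟩ => ⟨Z + W, H.P_add _ _ hZ hW, by rw [map_mul, e, e', dnM_mul]⟩
  inv_mem' := fun {a} ⟨Z, hZ, e⟩ => ⟨-Z, H.P_neg _ hZ, H.mat_inv_dn e⟩

theorem norm_up (a : GL (Fin k) F) : ∀ p ∈ H.upGroup, H.lev a * p * (H.lev a)⁻¹ ∈ H.upGroup := by
  rintro p ⟨Z, hZ, e⟩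
  exact ⟨_, H.P_congr a.1 Z hZ, by rw [map_mul, map_mul, ← map_inv, H.mat_lev, H.mat_lev, e, lvM_upM]⟩

theorem norm_dn (a : GL (Fin k) F) : ∀ p ∈ H.dnGroup, H.lev a * p * (H.lev a)⁻¹ ∈ H.dnGroup := by
  rintro p ⟨Z, hZ, e⟩
  have := H.P_congr (a⁻¹).1ᵀ Z hZ
  rw [transpose_transpose] at this
  exact ⟨_, this, by rw [map_mul, map_mul, ← map_inv, H.mat_lev, H.mat_lev, e, lvM_dnM]⟩

theorem free_up {a : GL (Fin k) F} (hf : Free H.P a.1) :
    ∀ p ∈ H.upGroup, Commute (H.lev a) p → p = 1 := by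
  rintro p ⟨Z, hZ, e⟩ hc
  have h : H.mat (H.lev a * p * (H.lev a)⁻¹) = H.mat p := by rw [hc.eq, mul_inv_cancel_right]
  rw [map_mul, map_mul, ← map_inv, H.mat_lev, H.mat_lev, e, lvM_upM] at h
  have hZ0 := hf Z hZ (by simpa [upM] using congrArg Matrix.toBlocks₁₂ h)
  exact H.inj (by rw [e, hZ0, upM_zero, map_one])

theorem free_dn {a : GL (Fin k) F} (hf : Free H.P a.1ᵀ) :
    ∀ p ∈ H.dnGroup, Commute (H.lev a) p → p = 1 := by
  rintro p ⟨Z, hZ, e⟩ hc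
  have h : H.mat (H.lev a * p * (H.lev a)⁻¹) = H.mat p := by rw [hc.eq, mul_inv_cancel_right]
  rw [map_mul, map_mul, ← map_inv, H.mat_lev, H.mat_lev, e, lvM_dnM] at h
  have h' : (a⁻¹).1ᵀ * Z * (a⁻¹).1 = Z := by simpa [dnM] using congrArg Matrix.toBlocks₂₁ h
  have hZ0 := hf Z hZ (by
    rw [transpose_transpose]
    nth_rewrite 1 [← h']
    rw [← mul_assoc, ← mul_assoc, ← transpose_mul, Units.inv_mul, transpose_one, one_mul, mul_assoc,
      Units.inv_mul, mul_one])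
  exact H.inj (by rw [e, hZ0, dnM_zero, map_one])

theorem mat_blocks (g : O) : H.mat g = fromBlocks (H.mat g).toBlocks₁₁ (H.mat g).toBlocks₁₂
    (H.mat g).toBlocks₂₁ (H.mat g).toBlocks₂₂ := (fromBlocks_toBlocks _).symm

/-- A vector killed by the first two column blocks is zero. -/
theorem joint_ker (g : O) (x : Fin k → F) (hA : (H.mat g).toBlocks₁₁ *ᵥ x = 0)
    (hC : (H.mat g).toBlocks₂₁ *ᵥ x = 0) : x = 0 := by
  have h : H.mat g *ᵥ Sum.elim x 0 = 0 := by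
    rw [H.mat_blocks g, fromBlocks_mulVec]
    simp [hA, hC]
  have h' := congrArg (H.mat g⁻¹ *ᵥ ·) h
  simp only [mulVec_mulVec, ← map_mul, inv_mul_cancel, map_one, one_mulVec, mulVec_zero] at h'
  exact funext fun i => congrFun h' (Sum.inl i)

theorem conj_up (g u : O) {S : Matrix (Fin k) (Fin k) F} (hu : H.mat u = upM S) :
    (H.mat (u * g * u⁻¹)).toBlocks₁₁ = (H.mat g).toBlocks₁₁ + S * (H.mat g).toBlocks₂₁ ∧
      (H.mat (u * g * u⁻¹)).toBlocks₂₁ = (H.mat g).toBlocks₂₁ := by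
  rw [map_mul, map_mul, H.mat_inv_up hu, hu, H.mat_blocks g]
  simp [upM, fromBlocks_multiply]

theorem conj_dn (g u : O) {Y : Matrix (Fin k) (Fin k) F} (hu : H.mat u = dnM Y) :
    (H.mat (u * g * u⁻¹)).toBlocks₂₁ = (H.mat g).toBlocks₂₁ + Y * (H.mat g).toBlocks₁₁
      - (H.mat g).toBlocks₂₂ * Y - Y * (H.mat g).toBlocks₁₂ * Y := by
  rw [map_mul, map_mul, H.mat_inv_dn hu, hu, H.mat_blocks g]
  simp [dnM, fromBlocks_multiply, add_mul, mul_neg]
  abel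

/-- The Gauss decomposition where the first block is invertible. -/
theorem gauss (g : O) (hU : IsUnit (H.mat g).toBlocks₁₁.det) :
    ∃ v ∈ H.dnGroup, ∃ a : GL (Fin k) F, ∃ q ∈ H.upGroup,
      a.1 = (H.mat g).toBlocks₁₁ ∧ g = v * H.lev a * q := by
  have hZ := H.low g hU
  obtain ⟨v, hv⟩ := H.exDn _ hZ
  set w := v⁻¹ * g with hw
  have hmw : H.mat w = fromBlocks (H.mat g).toBlocks₁₁ (H.mat g).toBlocks₁₂ 0 (-((H.mat g).toBlocks₂₁ *
      (H.mat g).toBlocks₁₁⁻¹) * (H.mat g).toBlocks₁₂ + (H.mat g).toBlocks₂₂) := by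
    rw [hw, map_mul, H.mat_inv_dn hv]
    conv_lhs => rw [H.mat_blocks g]
    simp [dnM, fromBlocks_multiply, neg_mul, mul_assoc, nonsing_inv_mul _ hU]
  obtain ⟨hD, -, hB⟩ := H.tri w (by rw [hmw]; simp)
  have hA11 : (H.mat w).toBlocks₁₁ = (H.mat g).toBlocks₁₁ := by rw [hmw]; simp
  have hB12 : (H.mat w).toBlocks₁₂ = (H.mat g).toBlocks₁₂ := by rw [hmw]; simp
  rw [hA11, hB12] at hB
  obtain ⟨q, hq⟩ := H.exUp _ hB
  let a : GL (Fin k) F := GeneralLinearGroup.mkOfDetNeZero (H.mat g).toBlocks₁₁ hU.ne_zero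
  refine ⟨v, ⟨_, hZ, hv⟩, a, q, ⟨_, hB, hq⟩, rfl, ?_⟩
  have hwq : w = H.lev a * q := by
    refine H.inj ?_
    rw [H.mat_blocks w, hA11, hB12, hD, hA11, hmw, toBlocks_fromBlocks₂₁,
      map_mul H.mat (H.lev a) q, H.mat_lev, hq]
    rw [lvM, upM, fromBlocks_multiply, coe_tinv]
    have ha : a.1 = (H.mat g).toBlocks₁₁ := rfl
    have hai : (a⁻¹).1 = (H.mat g).toBlocks₁₁⁻¹ := by rw [coe_units_inv, ha]
    simp [ha, hai, ← mul_assoc, mul_nonsing_inv _ hU]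
  rw [mul_assoc v, ← hwq, hw, mul_inv_cancel_left]

/-- The shear subgroups lie in the commutator subgroup. -/
theorem shears_le [Finite O] {c : GL (Fin k) F} (hc : Free H.P c.1) (hct : Free H.P c.1ᵀ) :
    H.upGroup ≤ commutator O ∧ H.dnGroup ≤ commutator O :=
  ⟨le_commutator_of_free _ (fun p hp => H.norm_up c p hp) (H.free_up hc),
    le_commutator_of_free _ (fun p hp => H.norm_dn c p hp) (H.free_dn hct)⟩

/-- The square of a class exhausts the quotient by the centre. -/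
theorem classSquare {n : ℕ} (H : Hyp O F (n + 2)) [Finite O] (Γ : Subgroup O) (hΓ : commutator O ≤ Γ)
    (h4 : Four F) {s b : Fˣ} (hb1 : b ≠ 1) (hb2 : b * b ≠ 1)
    (hfree : ∀ Z, H.P Z → ∀ i j, (s : F) * cyB n b i * ((s : F) * cyB n b j) = 1 → Z i j = 0)
    (hc₀ : H.lev (cs n s b) ∈ Γ) (hSL : ∀ S : GL (Fin (n + 2)) F, S.1.det = 1 → H.lev S ∈ Γ)
    (real : ∃ r ∈ Γ, r * H.lev (cs n s b) * r⁻¹ = (H.lev (cs n s b))⁻¹)
    (fix0 : ∀ A B : Matrix (Fin (n + 2)) (Fin (n + 2)) F, (∀ Y, H.P Y → Aᵀ * Y * A = Y) →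
      (∀ Y, H.P Y → Y * B * Y = 0) → B = 0 ∧ ∃ d : F, d * d = 1 ∧ A = d • 1)
    (fix : ∀ g ∈ Γ, (H.mat g).toBlocks₂₁ ≠ 0 → ∃ S, H.P S ∧
      ((H.mat g).toBlocks₁₁ + S * (H.mat g).toBlocks₂₁).det = (s : F) ^ (2 * (n + 2)) ∧
        NonScalar ((H.mat g).toBlocks₁₁ + S * (H.mat g).toBlocks₂₁)) :
    ClassSquare (Γ ⧸ Subgroup.center Γ) := by
  have hl : Free H.P (cs n s b).1 := free_lower (cs_lower s b) fun Z hZ i j h => by
    rw [cs_diag, cs_diag] at h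
    exact hfree Z hZ i j h
  have hfU := fun h : GL (Fin (n + 2)) F => H.free_up (free_conj H.P_congr (sim_cs s b h) hl)
  have hfD := fun h : GL (Fin (n + 2)) F => H.free_dn (free_conj H.P_congr (sim_cs_transpose s b h) hl)
  have hUp : H.upGroup ≤ Γ := (le_commutator_of_free _ (fun p hp => H.norm_up (cs n s b) p hp)
    (fun p hp => by simpa using hfU 1 p hp)).trans hΓ
  have hDn : H.dnGroup ≤ Γ := (le_commutator_of_free _ (fun p hp => H.norm_dn (cs n s b) p hp)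
    (fun p hp => by simpa using hfD 1 p hp)).trans hΓ
  refine classSquare_datum Γ hΓ H.lev H.upGroup H.dnGroup (cs n s b) hc₀
    { carrier := {S | S.1.det = 1}
      one_mem' := by simp
      mul_mem' := fun {a b} ha hb => by
        show (a * b).1.det = 1
        rw [Units.val_mul, det_mul, show a.1.det = 1 from ha, show b.1.det = 1 from hb, one_mul]
      inv_mem' := fun {a} ha => by
        have : (a⁻¹).1.det * a.1.det = 1 := by rw [← det_mul, Units.inv_mul, det_one]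
        rwa [show a.1.det = 1 from ha, mul_one] at this }
    (fun S hS => hSL S hS) (fun a => a.1.det = (s : F) ^ (2 * (n + 2)) ∧ NonScalar a.1)
    H.norm_up H.norm_dn hfU hfD ?_ real ?_
  · rintro a ⟨hd, hns⟩
    obtain ⟨S, T, hS, hT, e⟩ := two_cs h4 hb1 hb2 hd hns
    exact ⟨S, hS, T, hT, e⟩
  intro g hg
  obtain ⟨k₀, hk₀, hC⟩ : ∃ k₀ ∈ Γ, (H.mat (k₀ * g.1 * k₀⁻¹)).toBlocks₂₁ ≠ 0 := by
    by_contra hcon
    push Not at hcon
    have hC : (H.mat g.1).toBlocks₂₁ = 0 := by simpa using hcon 1 (one_mem _)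
    obtain ⟨hD, hA, hB⟩ := H.tri g.1 hC
    set A := (H.mat g.1).toBlocks₁₁ with hAdef
    set B := (H.mat g.1).toBlocks₁₂ with hBdef
    set D := (H.mat g.1).toBlocks₂₂ with hDdef
    have key : ∀ Y, H.P Y → Y * A - D * Y - Y * B * Y = 0 := by
      intro Y hY
      obtain ⟨u, hu⟩ := H.exDn Y hY
      have h := H.conj_dn g.1 u hu
      rwa [hcon u (hDn ⟨Y, hY, hu⟩), hC, zero_add, ← hAdef, ← hBdef, ← hDdef, eq_comm] at h
    obtain ⟨t, ht0, ht1, -⟩ := h4 0 1 0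
    have split : ∀ Y, H.P Y → Y * A = D * Y ∧ Y * B * Y = 0 := by
      intro Y hY
      have k1 := key Y hY
      have k2 := key (t • Y) (H.P_smul t Y hY)
      simp only [Matrix.smul_mul, Matrix.mul_smul, smul_smul] at k2
      have hQ : (t * t - t) • (Y * B * Y) = 0 := by linear_combination (norm := module) t • k1 - k2
      have hQ' := (smul_eq_zero.1 hQ).resolve_left (by
        intro e
        rcases mul_eq_zero.1 (show t * (t - 1) = 0 by linear_combination e) with h | h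
        · exact ht0 h
        · exact ht1 (sub_eq_zero.1 h))
      refine ⟨?_, hQ'⟩
      rw [hQ', sub_zero, sub_eq_zero] at k1
      exact k1
    have hAY : ∀ Y, H.P Y → Aᵀ * Y * A = Y := fun Y hY => by
      rw [mul_assoc, (split Y hY).1, hD, ← mul_assoc, ← transpose_mul, nonsing_inv_mul A hA, transpose_one,
        one_mul]
    obtain ⟨hB0, d, hd, hAd⟩ := fix0 A B hAY (fun Y hY => (split Y hY).2)
    have hAi : A⁻¹ = A := inv_eq_left_inv (by rw [hAd, Matrix.smul_mul, Matrix.mul_smul, one_mul, smul_smul, hd, one_smul])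
    have hm : H.mat g.1 = d • 1 := by
      rw [H.mat_blocks g.1, ← hAdef, ← hBdef, ← hDdef, hC, hB0, hD, hAi, hAd, ← fromBlocks_one, fromBlocks_smul]
      simp
    refine hg (Subgroup.mem_center_iff.2 fun x => Subtype.ext (H.inj ?_))
    show H.mat (x.1 * g.1) = H.mat (g.1 * x.1)
    rw [map_mul, map_mul, hm, Matrix.smul_mul, Matrix.mul_smul, one_mul, mul_one]
  have hg₁ : k₀ * g.1 * k₀⁻¹ ∈ Γ := mul_mem (mul_mem hk₀ g.2) (inv_mem hk₀)
  obtain ⟨S, hS, hdet, hns⟩ := fix _ hg₁ hC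
  obtain ⟨u, hu⟩ := H.exUp S hS
  set g₂ := u * (k₀ * g.1 * k₀⁻¹) * u⁻¹ with hg₂
  obtain ⟨hA2, -⟩ := H.conj_up (k₀ * g.1 * k₀⁻¹) u hu
  rw [← hg₂] at hA2
  rw [← hA2] at hdet hns
  have hU : IsUnit (H.mat g₂).toBlocks₁₁.det := by rw [hdet]; exact (pow_ne_zero _ s.ne_zero).isUnit
  obtain ⟨v, hv, a, q, hq, ha, e⟩ := H.gauss g₂ hU
  refine ⟨u * k₀, mul_mem (hUp ⟨S, hS, hu⟩) hk₀, v, hv, a, q, hq, by rw [ha]; exact ⟨hdet, hns⟩, ?_⟩
  rw [← e, hg₂]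
  group

end Hyp

end Cfsg.Agent.Lib.ThompsonSquare
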