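import Cfsg.Agent.Lib.ThompsonSquare.Classical.OddBase

/-!
Thompson's statement for the odd-dimensional orthogonal groups.
-/

set_option autoImplicit false

namespace Cfsg.Agent.Lib.ThompsonSquare

open Matrix Module Cfsg.Agent.Lib.Sourour Cfsg.Agent.Lib.Forms Cfsg.Agent.Lib.Orth52

variable {F : Type*} [Field F] {k : ℕ}

/-- The line form. -/
def qLine (F : Type*) [Field F] : QuadraticForm F (Unit → F) :=
  QuadraticMap.linMulLin (LinearMap.proj ()) (LinearMap.proj ())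

theorem qLine_nondeg (h2 : (2 : F) ≠ 0) : Nondeg (qLine F) := by
  intro x hx
  have h := hx (fun _ => 1)
  simp only [QuadraticMap.polar, qLine, QuadraticMap.linMulLin_apply, LinearMap.proj_apply, Pi.add_apply] at h
  funext u
  exact (mul_eq_zero.1 (show (2 : F) * x () = 0 by linear_combination h)).resolve_left h2

theorem odd_hf (v : OddI k → F) :
    Cfsg.quadFormOdd k F v = sumQuad (qLine F) (qPlus (F := F) k) v := by
  rw [sumQuad_apply, ← plus_hf]
  simp [qLine, QuadraticMap.linMulLin_apply, Cfsg.quadFormOdd, Cfsg.quadFormPlus, _root_.sq]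

theorem odd_finrank : finrank F (OddI k → F) = 1 + 2 * k := by
  rw [Module.finrank_fintype_fun_eq_card, Fintype.card_sum, Fintype.card_sum, Fintype.card_fin, Fintype.card_unit]
  omega

variable [Fintype F]

omit [Fintype F] in
theorem det_Omega {g : OddO k F} (hg : g ∈ Cfsg.Omega F (Cfsg.quadFormOdd k F)) : g.1.1.det = 1 := by
  have h := Abelianization.commutator_subset_ker
    (GeneralLinearGroup.det.comp (Cfsg.isometryGroup F (Cfsg.quadFormOdd k F)).subtype) hg
  exact congrArg Units.val h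

theorem dickson_odd_zero (h2 : (2 : F) ≠ 0) {g : OddO k F} (hg : g.1.1.det = 1) :
    dickson (sumQuad (qLine F) (qPlus (F := F) k)) (isoOrth (sumQuad (qLine F) (qPlus (F := F) k)) odd_hf g) = 0 := by
  have hm : g.1 ∈ Cfsg.isometryGroup F (⇑(sumQuad (qLine F) (qPlus (F := F) k))) := fun u v => by
    show sumQuad _ _ (g.1.1 *ᵥ u) = sumQuad _ _ u
    rw [← odd_hf, ← odd_hf]; exact iso_apply g u
  have := (det_orth_eq (sumQuad (qLine F) (qPlus (F := F) k))
    (sumQuad_nondeg (qLine_nondeg h2) (qPlus_nondeg k)) h2 ⟨g.1, hm⟩).1 hg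
  convert this using 2
  apply Subtype.ext
  ext v : 1
  rw [isoOrth_apply, isoOrth_apply]

/-- The Levi embedding into the orthogonal group. -/
noncomputable def oddLeviHom (k : ℕ) : GL (Fin k) F →* orth (sumQuad (qLine F) (qPlus (F := F) k)) :=
  ((sumOrth (qLine F) (qPlus (F := F) k)).comp (MonoidHom.inr _ _)).comp (leviHom k)

omit [Fintype F] in
theorem isoOrth_oddLev (a : GL (Fin k) F) :
    isoOrth (sumQuad (qLine F) (qPlus (F := F) k)) odd_hf (oddLev a) = oddLeviHom k a := by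
  apply Subtype.ext
  ext v : 1
  rw [isoOrth_apply]
  show fromBlocks _ 0 0 (lvM a) *ᵥ v = (sumOrth (qLine F) (qPlus k) (1, leviHom k a)).1 v
  rw [sumOrth_apply, fromBlocks_mulVec, leviHom_apply, zero_mulVec, zero_mulVec, add_zero, zero_add, one_smul,
    one_mulVec]
  rfl

omit [Fintype F] in
theorem oddLev_det (a : GL (Fin k) F) : (oddLev a).1.1.det = 1 := by
  show (fromBlocks ((1 : F) • (1 : Matrix Unit Unit F)) 0 0 (lvM a)).det = 1
  rw [det_fromBlocks_zero₂₁, one_smul, det_one, one_mul, lvM, det_fromBlocks_zero₂₁, coe_tinv, det_transpose,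
    ← det_mul, Units.mul_inv, det_one]

theorem oddLeviHom_mem_iff (h2 : (2 : F) ≠ 0) (hk : 1 ≤ k) (a : GL (Fin k) F) :
    oddLeviHom k a ∈ commutator (orth (sumQuad (qLine F) (qPlus (F := F) k))) ↔ IsSquare a.1.det := by
  have h₁ := qLine_nondeg h2
  have hQ := sumQuad_nondeg h₁ (qPlus_nondeg (F := F) k)
  have hn : 2 ≤ finrank F (OddI k → F) := by rw [odd_finrank]; omega
  have hn₂ : 2 ≤ finrank F (Fin k ⊕ Fin k → F) := by rw [finrank_plusSpace]; omega
  have hF : Fintype.card F ≠ 2 := by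
    intro h
    exact h2 (by simpa [h] using (Nat.cast_card_eq_zero F))
  rw [mem_commutator_iff_spin hQ h2 hn]
  rw [and_iff_right (by rw [← isoOrth_oddLev]; exact dickson_odd_zero h2 (oddLev_det a))]
  rw [← leviHom_mem_iff hk (Or.inl hF) a, mem_commutator_iff_spin (qPlus_nondeg k) h2 hn₂,
    and_iff_right (dickson_leviHom k a)]
  suffices key : ∀ o : orth (qPlus (F := F) k),
      spinHom hQ h2 hn (sumOrth (qLine F) (qPlus k) (1, o)) = spinHom (qPlus_nondeg k) h2 hn₂ o by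
    show spinHom hQ h2 hn (sumOrth (qLine F) (qPlus k) (1, leviHom k a)) = 1 ↔ _
    rw [key]
  intro o
  have hm : o ∈ Subgroup.closure (reflSet (qPlus (F := F) k)) := by
    rw [closure_reflSet (qPlus_nondeg k) (Or.inl (exists_ne01 h2))]; trivial
  show ((spinHom hQ h2 hn).comp ((sumOrth (qLine F) (qPlus k)).comp (MonoidHom.inr _ _))) o = _
  refine MonoidHom.eqOn_closure ?_ hm
  rintro _ ⟨z, hz, rfl⟩
  show spinHom hQ h2 hn (sumOrth _ _ (1, orefl _ z)) = spinHom _ h2 hn₂ (orefl _ z)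
  rw [sumOrth_orefl_right]
  have hz' : sumQuad (qLine F) (qPlus (F := F) k) (Sum.elim 0 z) = qPlus k z := by simp [sumQuad_apply]
  have e : spinHom hQ h2 hn (orefl (sumQuad (qLine F) (qPlus k)) (Sum.elim 0 z)) = 1 ↔
      spinHom (qPlus_nondeg k) h2 hn₂ (orefl (qPlus k) z) = 1 := by
    rw [spinHom_orefl_eq_one_iff hQ h2 hn (by rw [hz']; exact hz),
      spinHom_orefl_eq_one_iff (qPlus_nondeg k) h2 hn₂ hz, hz']
  rcases Int.units_eq_one_or (spinHom (qPlus_nondeg k) h2 hn₂ (orefl (qPlus k) z)) with e' | e'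
  · rw [e', e.2 e']
  · rw [e']
    refine (Int.units_eq_one_or _).resolve_left fun e'' => ?_
    have := e.1 e''
    rw [e'] at this
    exact absurd this (by decide)

theorem oddLev_mem_iff (h2 : (2 : F) ≠ 0) (hk : 1 ≤ k) (a : GL (Fin k) F) :
    oddLev a ∈ Cfsg.Omega F (Cfsg.quadFormOdd k F) ↔ IsSquare a.1.det := by
  rw [mem_Omega_iff_orth (sumQuad (qLine F) (qPlus (F := F) k)) odd_hf, isoOrth_oddLev, oddLeviHom_mem_iff h2 hk]

omit [Fintype F] in
theorem odd_norm_up (a : GL (Fin k) F) : ∀ p ∈ oddUp k F, oddLev a * p * (oddLev a)⁻¹ ∈ oddUp k F := by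
  rintro p ⟨b, S, hS, e⟩
  refine ⟨a.1 *ᵥ b, a.1 * S * a.1ᵀ, plusHyp.P_congr _ _ hS, fun v => ?_⟩
  rw [← mk3_eta v, act_mul, act_mul, ← map_inv, act_lev, e, upF_apply, act_lev, upF_apply]
  have h1 : (tinv a⁻¹).1 = a.1ᵀ := by rw [coe_tinv, inv_inv]
  have h2 : ∀ w, (tinv a).1 *ᵥ (a.1ᵀ *ᵥ w) = w := fun w => by
    rw [coe_tinv, mulVec_mulVec, ← transpose_mul, Units.mul_inv, transpose_one, one_mulVec]
  have h3 : ∀ w : Fin k → F, b ⬝ᵥ (a.1ᵀ *ᵥ w) = (a.1 *ᵥ b) ⬝ᵥ w := fun w => by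
    rw [dotProduct_mulVec, vecMul_transpose]
  have h4 : ∀ w, a.1 *ᵥ ((a⁻¹).1 *ᵥ w) = w := fun w => by rw [mulVec_mulVec, Units.mul_inv, one_mulVec]
  rw [h1, h2, h3, mulVec_add, mulVec_sub, mulVec_smul, h4, mulVec_mulVec, mulVec_mulVec]

omit [Fintype F] in
theorem odd_norm_dn (a : GL (Fin k) F) : ∀ p ∈ oddDn k F, oddLev a * p * (oddLev a)⁻¹ ∈ oddDn k F := by
  rintro p ⟨b, S, hS, e⟩
  refine ⟨(tinv a).1 *ᵥ b, (tinv a).1 * S * (tinv a).1ᵀ, plusHyp.P_congr _ _ hS, fun v => ?_⟩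
  rw [← mk3_eta v, act_mul, act_mul, ← map_inv, act_lev, e, dnF_apply, act_lev, dnF_apply]
  have h1 : (tinv a⁻¹).1 = a.1ᵀ := by rw [coe_tinv, inv_inv]
  have h2 : ∀ w, (tinv a).1 *ᵥ (a.1ᵀ *ᵥ w) = w := fun w => by
    rw [coe_tinv, mulVec_mulVec, ← transpose_mul, Units.mul_inv, transpose_one, one_mulVec]
  have h3 : ∀ w : Fin k → F, b ⬝ᵥ ((a⁻¹).1 *ᵥ w) = ((tinv a).1 *ᵥ b) ⬝ᵥ w := fun w => by
    rw [dotProduct_mulVec, coe_tinv, mulVec_transpose]
  have h4 : ∀ w, a.1 *ᵥ ((a⁻¹).1 *ᵥ w) = w := fun w => by rw [mulVec_mulVec, Units.mul_inv, one_mulVec]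
  have h5 : (tinv a).1ᵀ = (a⁻¹).1 := by rw [coe_tinv, transpose_transpose]
  rw [h1, h3, h5, mulVec_add, mulVec_sub, mulVec_smul, h2, h4, mulVec_mulVec, mulVec_mulVec]

omit [Fintype F] in
theorem fixed_vec {M : Matrix (Fin k) (Fin k) F} (hd : (M - 1).det ≠ 0) {b : Fin k → F} (h : M *ᵥ b = b) :
    b = 0 := by
  by_contra hb
  exact hd (exists_mulVec_eq_zero_iff.1 ⟨b, hb, by rw [sub_mulVec, h, one_mulVec, sub_self]⟩)

omit [Fintype F] in
theorem odd_free_up {a : GL (Fin k) F} (hd : (a.1 - 1).det ≠ 0) (hf : Free IsAltM a.1) :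
    ∀ p ∈ oddUp k F, Commute (oddLev a) p → p = 1 := by
  rintro p ⟨b, S, hS, e⟩ hc
  have hv : ∀ y, act (oddLev a * p) (mk3 0 0 y) = act (p * oddLev a) (mk3 0 0 y) := fun y => by rw [hc.eq]
  simp only [act_mul, act_lev, e, upF_apply, mulVec_zero] at hv
  have hb : b = 0 := by
    refine fixed_vec (M := a.1) hd (funext fun i => ?_)
    have := (mk3_inj (hv (a.1ᵀ *ᵥ Pi.single i 1))).1
    rw [zero_add, zero_add, coe_tinv, mulVec_mulVec, ← transpose_mul, Units.mul_inv, transpose_one, one_mulVec,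
      dotProduct_mulVec, vecMul_transpose, dotProduct_single_one, dotProduct_single_one] at this
    exact this
  have hS0 : S = 0 := hf S hS (Matrix.ext_iff_mulVec.2 fun w => by
    have := (mk3_inj (hv (a.1ᵀ *ᵥ w))).2.1
    simp only [hb, smul_zero, sub_zero, zero_add, coe_tinv, mulVec_mulVec, ← mul_assoc, ← transpose_mul,
      Units.mul_inv, transpose_one, mul_one] at this
    exact this)
  refine act_ext fun z x y => ?_
  rw [e, hb, hS0, upF_zero, act_one]; rfl

omit [Fintype F] in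
theorem odd_free_dn {a : GL (Fin k) F} (hd : (a.1 - 1).det ≠ 0) (hf : Free IsAltM a.1ᵀ) :
    ∀ p ∈ oddDn k F, Commute (oddLev a) p → p = 1 := by
  rintro p ⟨b, S, hS, e⟩ hc
  have hv : ∀ x, act (oddLev a * p) (mk3 0 x 0) = act (p * oddLev a) (mk3 0 x 0) := fun x => by rw [hc.eq]
  simp only [act_mul, act_lev, e, dnF_apply, mulVec_zero] at hv
  have hb : b = 0 := by
    refine fixed_vec (M := a.1ᵀ) (by rw [← transpose_one, ← transpose_sub, det_transpose]; exact hd)
      (funext fun i => ?_)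
    have := (mk3_inj (hv (Pi.single i 1))).1
    rw [zero_add, zero_add, dotProduct_mulVec b, dotProduct_single_one, dotProduct_single_one,
      ← mulVec_transpose] at this
    exact this.symm
  have hS0 : S = 0 := hf S hS (Matrix.ext_iff_mulVec.2 fun w => by
    have := congrArg (a.1ᵀ *ᵥ ·) (mk3_inj (hv w)).2.2
    simp only [hb, smul_zero, sub_zero, zero_add, coe_tinv, mulVec_mulVec, ← mul_assoc, ← transpose_mul,
      Units.inv_mul, transpose_one, one_mul] at this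
    rw [transpose_transpose]
    exact this.symm)
  refine act_ext fun z x y => ?_
  rw [e, hb, hS0, dnF_zero, act_one]; rfl

omit [Fintype F] in
theorem odd_gauss (hup : oddUp k F ≤ commutator (OddO k F))
    (hdn : oddDn k F ≤ commutator (OddO k F)) {g : OddO k F} (hg : g.1.1.det = 1) (hA : IsUnit (blkA g).det) :
    ∃ v ∈ oddDn k F, ∃ a : GL (Fin k) F, ∃ q ∈ oddUp k F, a.1 = blkA g ∧ g = v * oddLev a * q := by
  set A := blkA g with hAdef
  set η : Fin k → F := blkZ g ᵥ* A⁻¹ with hη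
  set Y := blkC g * A⁻¹ with hY
  set S : Matrix (Fin k) (Fin k) F := Y + vecMulVec η η with hSdef
  have hS : IsAltM S := fun x => by
    have h := blk_rel g (A⁻¹ *ᵥ x)
    rw [← hAdef, mulVec_mulVec, mulVec_mulVec, mul_nonsing_inv A hA, one_mulVec, dotProduct_mulVec, ← hη, ← hY] at h
    rw [hSdef, add_mulVec, outer_mulVec, dotProduct_add, dotProduct_smul, smul_eq_mul, dotProduct_comm x η]
    linear_combination h
  obtain ⟨v, hv⟩ := exists_dn η hS
  let a : GL (Fin k) F := GeneralLinearGroup.mkOfDetNeZero A hA.ne_zero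
  set w := (oddLev a)⁻¹ * v⁻¹ * g with hw
  have hvin : v ∈ oddDn k F := ⟨η, S, hS, hv⟩
  have hdet : w.1.1.det = 1 := by
    show ((oddLev a)⁻¹.1.1 * v⁻¹.1.1 * g.1.1).det = 1
    rw [det_mul, det_mul, hg, det_Omega (inv_mem (hdn hvin)), mul_one, mul_one, ← map_inv, oddLev_det]
  have hwx : ∀ x, act w (mk3 0 x 0) = mk3 0 x 0 := by
    intro x
    have hηA : blkZ g ⬝ᵥ x = η ⬝ᵥ (A *ᵥ x) := by
      rw [hη, dotProduct_mulVec, vecMul_vecMul, nonsing_inv_mul A hA, vecMul_one]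
    have hYA : blkC g *ᵥ x = Y *ᵥ (A *ᵥ x) := by
      rw [hY, mulVec_mulVec, mul_assoc, nonsing_inv_mul A hA, mul_one]
    rw [hw, act_mul, act_mul, act_x, ← hAdef, act_inv_dn hv, dnF_apply, ← map_inv, act_lev, hηA, hYA]
    have e1 : (a⁻¹).1 *ᵥ (A *ᵥ x) = x := by
      rw [mulVec_mulVec, show A = a.1 from rfl, Units.inv_mul, one_mulVec]
    rw [e1]
    congr 1
    · rw [neg_dotProduct, add_neg_cancel]
    · rw [hSdef, neg_dotProduct, neg_mulVec, add_mulVec, outer_mulVec]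
      convert mulVec_zero (tinv a⁻¹).1 using 2
      module
  -- the remaining columns
  set ω := act w (mk3 1 0 0) (.inl ()) with hω
  set ρ : Fin k → F := fun i => act w (mk3 1 0 0) (.inr (.inl i)) with hρ
  set τ : Fin k → F := fun i => act w (mk3 1 0 0) (.inr (.inr i)) with hτ
  have hz : act w (mk3 1 0 0) = mk3 ω ρ τ := (mk3_eta _).symm
  let σ : Fin k → F := fun j => act w (mk3 0 0 (Pi.single j 1)) (.inl ())
  let B : Matrix (Fin k) (Fin k) F := Matrix.of fun i j => act w (mk3 0 0 (Pi.single j 1)) (.inr (.inl i))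
  let D : Matrix (Fin k) (Fin k) F := Matrix.of fun i j => act w (mk3 0 0 (Pi.single j 1)) (.inr (.inr i))
  have hy : ∀ y, act w (mk3 0 0 y) = mk3 (σ ⬝ᵥ y) (B *ᵥ y) (D *ᵥ y) := by
    intro y
    funext t
    rcases t with t | t | t <;>
      simp [σ, B, D, act, mk3, Matrix.mulVec, dotProduct, Fintype.sum_sum_type, Pi.single_apply]
  have hall : ∀ z x y, act w (mk3 z x y) = mk3 (z * ω + σ ⬝ᵥ y) (z • ρ + x + B *ᵥ y) (z • τ + D *ᵥ y) := by
    intro z x y
    have e : mk3 z x y = z • mk3 1 0 0 + mk3 0 x 0 + mk3 0 0 y := by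
      rw [mk3_smul, mk3_add, mk3_add]; simp
    rw [e, act_add, act_add, act_smul, hz, hwx, hy, mk3_smul, mk3_add, mk3_add]
    simp
  have hq : ∀ z x y, (z * ω + σ ⬝ᵥ y) ^ 2 + (z • ρ + x + B *ᵥ y) ⬝ᵥ (z • τ + D *ᵥ y) = z ^ 2 + x ⬝ᵥ y := by
    intro z x y
    have h := act_val w (mk3 z x y)
    rwa [hall, odd_val, odd_val] at h
  have hρτ : ω ^ 2 + ρ ⬝ᵥ τ = 1 := by
    have := hq 1 0 0
    simpa using this
  have hτ0 : τ = 0 := funext fun i => by
    have h := hq 1 (Pi.single i 1) 0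
    simp only [one_mul, dotProduct_zero, add_zero, one_pow, one_smul, mulVec_zero, add_dotProduct,
      single_one_dotProduct] at h
    show τ i = 0
    linear_combination h - hρτ
  have hD : ∀ y, D *ᵥ y = y := fun y => funext fun i => by
    have h := hq 0 (Pi.single i 1) y
    have h' := hq 0 0 y
    simp only [zero_smul, zero_add, zero_mul, add_dotProduct, single_one_dotProduct,
      zero_dotProduct] at h h'
    linear_combination h - h'
  have hω2 : ω * ω = 1 := by rw [hτ0, dotProduct_zero, add_zero] at hρτ; linear_combination hρτ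
  have hB : ∀ y, (σ ⬝ᵥ y) * (σ ⬝ᵥ y) + (B *ᵥ y) ⬝ᵥ y = 0 := fun y => by
    have h := hq 0 0 y
    simp only [zero_smul, zero_add, zero_mul, hD, zero_dotProduct, ne_eq, OfNat.ofNat_ne_zero, not_false_eq_true,
      zero_pow] at h
    linear_combination h
  have hρσ : ∀ y, 2 * ω * (σ ⬝ᵥ y) + ρ ⬝ᵥ y = 0 := fun y => by
    have h := hq 1 0 y
    simp only [one_mul, one_smul, add_zero, hτ0, zero_add, hD, one_pow, zero_dotProduct, add_dotProduct] at h
    linear_combination h - hB y - hω2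
  have hρ' : ρ = (-(2 * ω)) • σ := funext fun i => by
    have := hρσ (Pi.single i 1)
    simp only [dotProduct_single_one] at this
    show ρ i = -(2 * ω) * σ i
    linear_combination this
  set T : Matrix (Fin k) (Fin k) F := B + vecMulVec σ σ with hTdef
  have hT : IsAltM T := fun y => by
    rw [hTdef, add_mulVec, outer_mulVec, dotProduct_add, dotProduct_smul, smul_eq_mul, dotProduct_comm y σ,
      dotProduct_comm y (B *ᵥ y)]
    linear_combination hB y
  obtain ⟨q, hq'⟩ := exists_up σ hT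
  have hqin : q ∈ oddUp k F := ⟨σ, T, hT, hq'⟩
  set P := q⁻¹ * w with hPdef
  have hP : ∀ z x y, act P (mk3 z x y) = mk3 (ω * z) x y := by
    intro z x y
    rw [hPdef, act_mul, hall, act_inv_up hq', upF_apply, hτ0, smul_zero, zero_add, hD, hρ', hTdef, smul_smul]
    congr 1
    · rw [neg_dotProduct]; ring
    · rw [neg_dotProduct, neg_mulVec, add_mulVec, outer_mulVec]
      module
  have hω1 : ω = 1 := by
    have hm : P.1.1 = fromBlocks (ω • (1 : Matrix Unit Unit F)) 0 0 1 := by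
      refine Matrix.ext_iff_mulVec.2 fun v => ?_
      show act P v = _
      rw [← mk3_eta v, hP, mk3, fromBlocks_mulVec]
      funext t
      rcases t with t | t | t <;> simp [mk3, smul_mulVec]
    have hd : P.1.1.det = 1 := by
      show ((q⁻¹).1.1 * w.1.1).det = 1
      rw [det_mul, hdet, det_Omega (inv_mem (hup hqin)), mul_one]
    rw [hm, det_fromBlocks_zero₂₁, det_smul, det_one, det_one, Fintype.card_unit] at hd
    simpa using hd
  have hP1 : P = 1 := act_ext fun z x y => by rw [hP, hω1, one_mul, act_one]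
  refine ⟨v, hvin, a, q, hqin, rfl, ?_⟩
  have hwq : w = q := by rw [← mul_one q, ← hP1, hPdef, mul_inv_cancel_left]
  rw [← hwq, hw]
  group

theorem odd_fix (h2 : (2 : F) ≠ 0) (hk : 3 ≤ k) (hup : oddUp k F ≤ commutator (OddO k F))
    (hdn : oddDn k F ≤ commutator (OddO k F)) {d : F} (hd : d ≠ 0) (hdsq : IsSquare d) :
    ∀ (r : ℕ) (g : OddO k F), finrank F (LinearMap.ker (blkA g).mulVecLin) = r →
      g ∈ Cfsg.Omega F (Cfsg.quadFormOdd k F) → blkC g ≠ 0 →
      ∃ u ∈ Cfsg.Omega F (Cfsg.quadFormOdd k F),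
        (blkA (u * g * u⁻¹)).det = d ∧ NonScalar (blkA (u * g * u⁻¹)) := by
  intro r
  induction r using Nat.strong_induction_on with
  | h r ih =>
    intro g hr hg hC
    by_cases hA : (blkA g).det = 0
    · obtain ⟨b, hlt⟩ := odd_raise (fun x => blk_ker g (x := x)) (fun x => blk_zero_of_ker g (x := x)) hA
      obtain ⟨u, hu⟩ := exists_up b (plusHyp (F := F) (k := k)).P_zero
      have hu' : u ∈ Cfsg.Omega F (Cfsg.quadFormOdd k F) := hup ⟨b, 0, plusHyp.P_zero, hu⟩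
      obtain ⟨h11, h21⟩ := conj_up_blk (g := g) hu
      rw [zero_mul, add_zero] at h11
      obtain ⟨u', hu'', h1, h2'⟩ := ih _ (hr ▸ hlt) (u * g * u⁻¹) (by rw [h11]) (mul_mem (mul_mem hu' hg) (inv_mem hu'))
        (by rwa [h21])
      have e : u' * u * g * (u' * u)⁻¹ = u' * (u * g * u⁻¹) * u'⁻¹ := by group
      exact ⟨u' * u, mul_mem hu'' hu', by rwa [e], by rwa [e]⟩
    · have hU : IsUnit (blkA g).det := Ne.isUnit hA
      obtain ⟨v, hv, a, q, hq, ha, e⟩ := odd_gauss hup hdn (det_Omega hg) hU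
      have hla : oddLev a ∈ Cfsg.Omega F (Cfsg.quadFormOdd k F) := by
        have : oddLev a = v⁻¹ * g * q⁻¹ := by rw [e]; group
        rw [this]
        exact mul_mem (mul_mem (inv_mem (hdn hv)) hg) (inv_mem (hup hq))
      have hsq : IsSquare (blkA g).det := by rw [← ha]; exact (oddLev_mem_iff h2 (by omega) a).1 hla
      by_cases hζ : blkZ g = 0
      · obtain ⟨S, hS, h1, h2'⟩ := plus_det hk hU hC (fun x => by simpa [hζ] using blk_rel g x) hsq hd hdsq
        obtain ⟨u, hu⟩ := exists_up 0 hS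
        obtain ⟨h11, -⟩ := conj_up_blk (g := g) hu
        have h0 : blkA (u * g * u⁻¹) = blkA g + S * blkC g := by rw [h11]; simp
        exact ⟨u, hup ⟨0, S, hS, hu⟩, by rw [h0]; exact h1, by rw [h0]; exact h2'⟩
      · obtain ⟨b, h1, h2'⟩ := odd_det h2 hk hU hζ (blk_rel g) hsq hd hdsq
        obtain ⟨u, hu⟩ := exists_up b (plusHyp (F := F) (k := k)).P_zero
        obtain ⟨h11, -⟩ := conj_up_blk (g := g) hu
        rw [zero_mul, add_zero] at h11
        exact ⟨u, hup ⟨b, 0, plusHyp.P_zero, hu⟩, by rw [h11]; exact h1, by rw [h11]; exact h2'⟩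

omit [Fintype F] in
theorem odd_central (h2 : (2 : F) ≠ 0) (hk : 3 ≤ k) (h4 : Four F) (hup : oddUp k F ≤ commutator (OddO k F))
    (hdn : oddDn k F ≤ commutator (OddO k F)) {g : OddO k F} (hg : g ∈ Cfsg.Omega F (Cfsg.quadFormOdd k F))
    (hC : ∀ u ∈ oddDn k F, blkC (u * g * u⁻¹) = 0) : g = 1 := by
  have hC0 : blkC g = 0 := by simpa using hC 1 (one_mem _)
  have hA : IsUnit (blkA g).det := by
    refine isUnit_iff_ne_zero.2 fun h => ?_
    obtain ⟨⟨x, hx, hx'⟩, -⟩ := exists_kernel h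
    exact hx (blk_ker g hx' (by rw [hC0, zero_mulVec]))
  obtain ⟨v, hv, a, q, hq, ha, e⟩ := odd_gauss hup hdn (det_Omega hg) hA
  obtain ⟨η, S₀, hS₀, hv'⟩ := hv
  obtain ⟨β, T, hT, hq'⟩ := hq
  -- the lower factor is trivial
  have hgx : ∀ x, act g (mk3 0 x 0) = mk3 (η ⬝ᵥ a.1 *ᵥ x) (a.1 *ᵥ x) (-(η ⬝ᵥ a.1 *ᵥ x) • η + S₀ *ᵥ (a.1 *ᵥ x)) := by
    intro x
    rw [e, act_mul, act_mul, hq', upF_apply, dotProduct_zero, mulVec_zero, mul_zero, add_zero, zero_smul, sub_zero,
      add_zero, act_lev, mulVec_zero, hv', dnF_apply, mul_zero, zero_add]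
    congr 1
    module
  have hsolve : ∀ w : Fin k → F, ∃ x, a.1 *ᵥ x = w := fun w =>
    ⟨(a⁻¹).1 *ᵥ w, by rw [mulVec_mulVec, Units.mul_inv, one_mulVec]⟩
  have hη : η = 0 := funext fun i => by
    obtain ⟨x, hx⟩ := hsolve (Pi.single i 1)
    have h := (mk3_inj ((act_x g x).symm.trans (hgx x))).1
    have hz : blkZ g ⬝ᵥ x = 0 := mul_self_eq_zero.1 (by simpa [hC0] using blk_rel g x)
    rw [hz, hx, dotProduct_single_one] at h
    exact h.symm
  have hS0 : S₀ = 0 := Matrix.ext_iff_mulVec.2 fun w => by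
    obtain ⟨x, hx⟩ := hsolve w
    have h := (mk3_inj ((act_x g x).symm.trans (hgx x))).2.2
    rw [hC0, zero_mulVec, hη, hx, smul_zero, zero_add] at h
    rw [← h, zero_mulVec]
  have hgv : ∀ z x y, act g (mk3 z x y) =
      mk3 (z + β ⬝ᵥ y) (a.1 *ᵥ (x - (2 * z + β ⬝ᵥ y) • β + T *ᵥ y)) ((tinv a).1 *ᵥ y) := by
    intro z x y
    rw [e, act_mul, act_mul, hq', upF_apply, act_lev, hv', hη, hS0, dnF_zero]
    rfl
  have key : ∀ b S, IsAltM S → ∀ x,
      (tinv a).1 *ᵥ (-(b ⬝ᵥ x) • b - S *ᵥ x)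
        - (2 * (-(b ⬝ᵥ x) + β ⬝ᵥ (-(b ⬝ᵥ x) • b - S *ᵥ x))
          + b ⬝ᵥ a.1 *ᵥ (x - (2 * -(b ⬝ᵥ x) + β ⬝ᵥ (-(b ⬝ᵥ x) • b - S *ᵥ x)) • β + T *ᵥ (-(b ⬝ᵥ x) • b - S *ᵥ x))) • b
        + S *ᵥ (a.1 *ᵥ (x - (2 * -(b ⬝ᵥ x) + β ⬝ᵥ (-(b ⬝ᵥ x) • b - S *ᵥ x)) • β + T *ᵥ (-(b ⬝ᵥ x) • b - S *ᵥ x))) = 0 := by
    intro b S hS x
    obtain ⟨u, hu⟩ := exists_dn b hS
    have hux : act u⁻¹ (mk3 0 x 0) = mk3 (-(b ⬝ᵥ x)) x (-(b ⬝ᵥ x) • b - S *ᵥ x) := by
      rw [act_inv_dn hu, dnF_apply, neg_dotProduct, neg_mulVec, zero_add]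
      congr 1
      module
    have h := act_x (u * g * u⁻¹) x
    rw [hC u ⟨b, S, hS, hu⟩, zero_mulVec, act_mul, act_mul, hux, hgv, hu, dnF_apply] at h
    exact (mk3_inj h).2.2
  set B' : Matrix (Fin k) (Fin k) F := a.1 * (vecMulVec β β - T) with hB'
  have hlin : ∀ S, IsAltM S → ∀ x, S *ᵥ (a.1 *ᵥ x) - (tinv a).1 *ᵥ (S *ᵥ x) + S *ᵥ (B' *ᵥ (S *ᵥ x)) = 0 := by
    intro S hS x
    have h := key 0 S hS x
    simp only [zero_dotProduct, neg_zero, zero_sub, mul_zero, smul_zero, sub_zero,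
      mulVec_neg, dotProduct_neg, neg_smul, sub_neg_eq_add, ← sub_eq_add_neg] at h
    rw [mulVec_sub, mulVec_sub, mulVec_add, mulVec_add, mulVec_smul, mulVec_smul] at h
    rw [hB', ← mulVec_mulVec (S *ᵥ x), sub_mulVec, outer_mulVec, mulVec_sub, mulVec_sub, mulVec_smul, mulVec_smul]
    linear_combination (norm := module) h
  obtain ⟨t, ht0, ht1, -⟩ := h4 0 1 0
  have split : ∀ S, IsAltM S → S * a.1 = (tinv a).1 * S ∧ S * B' * S = 0 := by
    intro S hS
    have hQ : S * B' * S = 0 := Matrix.ext_iff_mulVec.2 fun x => by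
      have k1 := hlin S hS x
      have k2 := hlin (t • S) (hS.smul t) x
      simp only [smul_mulVec, mulVec_smul, smul_smul] at k2
      have hQ : (t * t - t) • (S *ᵥ (B' *ᵥ (S *ᵥ x))) = 0 := by linear_combination (norm := module) k2 - t • k1
      rw [← mulVec_mulVec, ← mulVec_mulVec, zero_mulVec]
      refine (smul_eq_zero.1 hQ).resolve_left fun e0 => ?_
      rcases mul_eq_zero.1 (show t * (t - 1) = 0 by linear_combination e0) with h | h
      · exact ht0 h
      · exact ht1 (sub_eq_zero.1 h)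
    refine ⟨Matrix.ext_iff_mulVec.2 fun x => ?_, hQ⟩
    have k1 := hlin S hS x
    have h0 : S *ᵥ (B' *ᵥ (S *ᵥ x)) = 0 := by rw [mulVec_mulVec, mulVec_mulVec, hQ, zero_mulVec]
    rw [h0, add_zero, sub_eq_zero, mulVec_mulVec, mulVec_mulVec] at k1
    exact k1
  obtain ⟨hB0, d, hd, had⟩ := alt_fix0 hk (A := a.1) (B := B') (fun Y hY => by
    rw [mul_assoc, (split Y hY).1, ← mul_assoc, coe_tinv, ← transpose_mul, Units.inv_mul, transpose_one, one_mul])
    (fun Y hY => (split Y hY).2)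
  have hT0 : vecMulVec β β - T = 0 := by
    have := congrArg ((a⁻¹).1 * ·) hB0
    simpa [hB', ← mul_assoc, Units.inv_mul] using this
  have hβ : β = 0 := funext fun i => by
    have h := hT (Pi.single i 1)
    rw [← sub_eq_zero.1 hT0, outer_mulVec, dotProduct_smul, dotProduct_single_one, single_one_dotProduct,
      smul_eq_mul] at h
    exact mul_self_eq_zero.1 h
  have hT1 : T = 0 := by rw [← sub_eq_zero.1 hT0, hβ]; simp
  have hat : (tinv a).1 = d • 1 := by
    have hAi : a.1⁻¹ = d • 1 :=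
      inv_eq_left_inv (by rw [had, Matrix.smul_mul, one_mul, smul_smul, hd, one_smul])
    rw [coe_tinv, coe_units_inv, hAi, transpose_smul, transpose_one]
  have hd1 : d = 1 := by
    have h := key (Pi.single ⟨0, by omega⟩ 1) 0 plusHyp.P_zero (Pi.single ⟨0, by omega⟩ 1)
    have h0 := congrFun h ⟨0, by omega⟩
    simp [hβ, hT1, hat, had, smul_mulVec] at h0
    refine (mul_left_cancel₀ h2 (?_ : (2 : F) * d = 2 * 1))
    linear_combination -h0
  refine act_ext fun z x y => ?_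
  rw [hgv, hβ, hT1, hat, had, hd1, act_one]
  simp

theorem classSquare_odd (h9 : 9 ≤ Fintype.card F) (hodd : Odd (Fintype.card F)) {m : ℕ} (hm : 3 ≤ m) :
    ClassSquare (Cfsg.POmega F (Cfsg.quadFormOdd m F)) := by
  classical
  have h2 : (2 : F) ≠ 0 := by
    intro h
    have hc : CharP F 2 := CharTwo.of_one_ne_zero_of_two_eq_zero one_ne_zero h
    have : ringChar F ≠ 2 := ringChar_ne_two rfl hodd
    exact this (ringChar.eq F 2)
  obtain ⟨n, rfl⟩ : ∃ n, m = n + 2 := ⟨m - 2, by omega⟩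
  obtain ⟨g, hg⟩ := exists_large_order h9
  have hpow : ∀ e : ℕ, 1 ≤ e → e ≤ 7 → g ^ e ≠ 1 := fun e h1 h2 he =>
    hg e (by omega) (by omega) (by rw [zpow_natCast]; exact he)
  set s : Fˣ := g * g with hs
  have heig : ∀ i : Fin (n + 2), ∃ e : ℕ, 1 ≤ e ∧ e ≤ 3 ∧ (s : F) * cyB n g i = ((g ^ e : Fˣ) : F) := by
    intro i
    unfold cyB
    split_ifs
    · exact ⟨3, by omega, le_rfl, by rw [pow_succ, pow_two, ← Units.val_mul]⟩
    · exact ⟨1, le_rfl, by omega, by rw [← Units.val_mul, pow_one, hs, mul_inv_cancel_right]⟩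
    · exact ⟨2, by omega, by omega, by rw [mul_one, hs, pow_two]⟩
  have hl : Free IsAltM (cs n s g).1 := free_lower (cs_lower s g) fun Z _ i j h => by
    obtain ⟨e, he1, he3, he⟩ := heig i
    obtain ⟨e', he1', he3', he'⟩ := heig j
    rw [cs_diag, cs_diag, he, he', ← Units.val_mul, ← pow_add, Units.val_eq_one] at h
    exact absurd h (hpow _ (by omega) (by omega))
  have hd0 : ((cs n s g).1 - 1).det ≠ 0 := by
    rw [det_of_isLowerTriangular]
    · refine Finset.prod_ne_zero_iff.2 fun i _ => ?_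
      obtain ⟨e, he1, he3, he⟩ := heig i
      rw [Matrix.sub_apply, cs_diag, one_apply_eq, he, sub_ne_zero, Ne, Units.val_eq_one]
      exact hpow e he1 (by omega)
    · intro i j h
      have h' : i < j := h
      rw [Matrix.sub_apply, cs_lower s g i j h', one_apply_ne h'.ne, sub_zero]
  have hdh : ∀ h : GL (Fin (n + 2)) F, ((h * cs n s g * h⁻¹).1 - 1).det ≠ 0 := by
    intro h
    have e : (h * cs n s g * h⁻¹).1 - 1 = h.1 * ((cs n s g).1 - 1) * (h⁻¹).1 := by
      rw [Units.val_mul, Units.val_mul, mul_sub, sub_mul, mul_one, Units.mul_inv]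
    rw [e, det_mul, det_mul, mul_right_comm, ← det_mul, Units.mul_inv, det_one, one_mul]
    exact hd0
  have : Finite (OddO (n + 2) F) := by
    have : Finite (Matrix (OddI (n + 2)) (OddI (n + 2)) F) :=
      inferInstanceAs (Finite (OddI (n + 2) → OddI (n + 2) → F))
    exact Finite.of_injective _ (isoMat_injective (Cfsg.quadFormOdd (n + 2) F))
  have hfU := fun h : GL (Fin (n + 2)) F =>
    odd_free_up (hdh h) (free_conj plusHyp.P_congr (sim_cs s g h) hl)
  have hfD := fun h : GL (Fin (n + 2)) F =>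
    odd_free_dn (hdh h) (free_conj plusHyp.P_congr (sim_cs_transpose s g h) hl)
  have hup : oddUp (n + 2) F ≤ commutator (OddO (n + 2) F) := le_commutator_of_free _
    (fun p hp => odd_norm_up (cs n s g) p hp) (fun p hp => by simpa using hfU 1 p hp)
  have hdn : oddDn (n + 2) F ≤ commutator (OddO (n + 2) F) := le_commutator_of_free _
    (fun p hp => odd_norm_dn (cs n s g) p hp) (fun p hp => by simpa using hfD 1 p hp)
  have hsq : IsSquare (s : F) := ⟨(g : F), by rw [hs, Units.val_mul]⟩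
  refine classSquare_datum (Cfsg.Omega F (Cfsg.quadFormOdd (n + 2) F)) le_rfl oddLev (oddUp (n + 2) F)
    (oddDn (n + 2) F) (cs n s g) ((oddLev_mem_iff h2 (by omega) _).2 (by rw [det_cs]; exact hsq.pow _))
    ((GeneralLinearGroup.det : GL (Fin (n + 2)) F →* Fˣ).ker)
    (fun S hS => (oddLev_mem_iff h2 (by omega) S).2 (by
      have : S.1.det = 1 := congrArg Units.val (MonoidHom.mem_ker.1 hS)
      rw [this]; exact IsSquare.one))
    (fun a => a.1.det = (s : F) ^ (2 * (n + 2)) ∧ NonScalar a.1)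
    odd_norm_up odd_norm_dn hfU hfD ?_ ?_ ?_
  · rintro a ⟨hd, hns⟩
    obtain ⟨S, T, hS, hT, e⟩ := two_cs (four_of_nine h9) (b := g)
      (fun h => hpow 1 le_rfl (by omega) (by rw [pow_one]; exact h))
      (fun h => hpow 2 (by omega) (by omega) (by rw [pow_two]; exact h)) hd hns
    exact ⟨S, MonoidHom.mem_ker.2 (Units.ext hS), T, MonoidHom.mem_ker.2 (Units.ext hT), e⟩
  · obtain ⟨R, hR, hRv⟩ := exists_odd_flip (n + 2) F
    have hex : (∃ a : F, a ≠ 0 ∧ a ≠ 1) ∨ finrank F (OddI (n + 2) → F) ≠ 4 := Or.inl (exists_ne01 h2)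
    obtain ⟨u, hu⟩ := exists_adjust (sumQuad_nondeg (qLine_nondeg h2) (qPlus_nondeg (F := F) (n + 2)))
      (by rw [odd_finrank]; omega) hex (oddLeviHom (n + 2)) (oddLeviHom_mem_iff h2 (by omega))
      (fun A => by rw [← isoOrth_oddLev]; exact dickson_odd_zero h2 (oddLev_det A)) (dickson_odd_zero h2 hR)
    obtain ⟨K, hdet, hKc⟩ := real_cs (n := n) s g u
    refine ⟨oddLev K * R, (mem_Omega_iff_orth (sumQuad (qLine F) (qPlus (F := F) (n + 2))) odd_hf _).2 (by
      rw [map_mul, isoOrth_oddLev]; exact hu K hdet), ?_⟩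
    set c := cs n s g
    have htt : tinv (tinv c) = c := Units.ext (transpose_transpose _)
    have hRc : R * oddLev c = oddLev (tinv c) * R := act_ext fun z x y => by
      rw [act_mul, act_mul, act_lev, hRv, hRv, act_lev, htt]
    calc oddLev K * R * oddLev c * (oddLev K * R)⁻¹ = oddLev K * (R * oddLev c) * R⁻¹ * (oddLev K)⁻¹ := by group
      _ = oddLev (K * tinv c * K⁻¹) := by rw [hRc, map_mul, map_mul, map_inv]; group
      _ = _ := by rw [hKc, map_inv]
  · intro x hx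
    obtain ⟨k₀, hk₀, hC⟩ : ∃ k₀ ∈ oddDn (n + 2) F, blkC (k₀ * x.1 * k₀⁻¹) ≠ 0 := by
      by_contra hcon
      push Not at hcon
      exact hx (by
        rw [show x = 1 from Subtype.ext (odd_central h2 (by omega) (four_of_nine h9) hup hdn x.2 hcon)]
        exact one_mem _)
    obtain ⟨u, hu, hdet, hns⟩ := odd_fix (d := (s : F) ^ (2 * (n + 2))) h2 (by omega) hup hdn (pow_ne_zero _ s.ne_zero) (hsq.pow _) _
      (k₀ * x.1 * k₀⁻¹) rfl (mul_mem (mul_mem (hdn hk₀) x.2) (inv_mem (hdn hk₀))) hC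
    set g₂ := u * (k₀ * x.1 * k₀⁻¹) * u⁻¹ with hg₂
    have hmem : g₂ ∈ Cfsg.Omega F (Cfsg.quadFormOdd (n + 2) F) :=
      mul_mem (mul_mem hu (mul_mem (mul_mem (hdn hk₀) x.2) (inv_mem (hdn hk₀)))) (inv_mem hu)
    obtain ⟨v, hv, a, q, hq, ha, e⟩ := odd_gauss hup hdn (det_Omega hmem)
      (by rw [hdet]; exact (pow_ne_zero _ s.ne_zero).isUnit)
    refine ⟨u * k₀, mul_mem hu (hdn hk₀), v, hv, a, q, hq, by rw [ha]; exact ⟨hdet, hns⟩, ?_⟩
    rw [← e, hg₂]
    group

end Cfsg.Agent.Lib.ThompsonSquare
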