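import Cfsg.Agent.Lib.ThompsonSquare.Classical.Plus
import Cfsg.Agent.Lib.Orth52.SumOrth
import Cfsg.Agent.Lib.Orth52.Discriminant

/-!
Shears and Levi elements of the odd-dimensional orthogonal groups.
-/

set_option autoImplicit false

namespace Cfsg.Agent.Lib.ThompsonSquare

open Matrix Module Cfsg.Agent.Lib.Sourour Cfsg.Agent.Lib.Forms Cfsg.Agent.Lib.Orth52

variable {F : Type*} [Field F] {k : ℕ}

/-- The coordinates of the odd space. -/
abbrev OddI (k : ℕ) := Unit ⊕ (Fin k ⊕ Fin k)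

/-- `O_{2k+1}`. -/
abbrev OddO (k : ℕ) (F : Type*) [Field F] := Cfsg.isometryGroup F (Cfsg.quadFormOdd k F)

/-- A vector from its three parts. -/
def mk3 (z : F) (x y : Fin k → F) : OddI k → F := Sum.elim (fun _ => z) (Sum.elim x y)

omit [Field F] in
theorem mk3_eta (v : OddI k → F) :
    mk3 (v (.inl ())) (fun i => v (.inr (.inl i))) (fun i => v (.inr (.inr i))) = v := by
  funext t; rcases t with t | t | t <;> rfl

omit [Field F] in
theorem mk3_inj {z z' : F} {x x' y y' : Fin k → F} (h : mk3 z x y = mk3 z' x' y') : z = z' ∧ x = x' ∧ y = y' :=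
  ⟨congrFun h (.inl ()), funext fun i => congrFun h (.inr (.inl i)), funext fun i => congrFun h (.inr (.inr i))⟩

theorem mk3_add (z z' : F) (x x' y y' : Fin k → F) :
    mk3 z x y + mk3 z' x' y' = mk3 (z + z') (x + x') (y + y') := by
  funext t; rcases t with t | t | t <;> rfl

theorem mk3_smul (c z : F) (x y : Fin k → F) : c • mk3 z x y = mk3 (c * z) (c • x) (c • y) := by
  funext t; rcases t with t | t | t <;> rfl

theorem odd_val (z : F) (x y : Fin k → F) : Cfsg.quadFormOdd k F (mk3 z x y) = z ^ 2 + x ⬝ᵥ y := rfl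

/-- The upper shear. -/
def upF (b : Fin k → F) (S : Matrix (Fin k) (Fin k) F) : (OddI k → F) →ₗ[F] (OddI k → F) where
  toFun v := mk3 (v (.inl ()) + b ⬝ᵥ fun i => v (.inr (.inr i)))
    ((fun i => v (.inr (.inl i))) - (2 * v (.inl ()) + b ⬝ᵥ fun i => v (.inr (.inr i))) • b
      + S *ᵥ fun i => v (.inr (.inr i)))
    (fun i => v (.inr (.inr i)))
  map_add' u v := by
    simp only [Pi.add_apply]
    rw [mk3_add]
    rw [show (fun i => u (.inr (.inr i)) + v (.inr (.inr i))) = (fun i => u (.inr (.inr i))) + fun i => v (.inr (.inr i)) from rfl,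
      show (fun i => u (.inr (.inl i)) + v (.inr (.inl i))) = (fun i => u (.inr (.inl i))) + fun i => v (.inr (.inl i)) from rfl,
      dotProduct_add, mulVec_add]
    congr 1
    · ring
    · module
  map_smul' c v := by
    simp only [Pi.smul_apply, RingHom.id_apply, smul_eq_mul]
    rw [mk3_smul]
    rw [show (fun i => c * v (.inr (.inr i))) = c • fun i => v (.inr (.inr i)) from rfl,
      show (fun i => c * v (.inr (.inl i))) = c • fun i => v (.inr (.inl i)) from rfl, dotProduct_smul, mulVec_smul,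
      smul_eq_mul]
    congr 1
    · ring
    · module

theorem upF_apply (b : Fin k → F) (S : Matrix (Fin k) (Fin k) F) (z : F) (x y : Fin k → F) :
    upF b S (mk3 z x y) = mk3 (z + b ⬝ᵥ y) (x - (2 * z + b ⬝ᵥ y) • b + S *ᵥ y) y := rfl

/-- The interchange of the two halves. -/
def flipF : (OddI k → F) →ₗ[F] (OddI k → F) :=
  LinearMap.funLeft F F (Sum.map id (Sum.swap : Fin k ⊕ Fin k → Fin k ⊕ Fin k))

theorem flipF_apply (z : F) (x y : Fin k → F) : flipF (mk3 z x y) = mk3 z y x := by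
  funext t; rcases t with t | t | t <;> rfl

/-- The lower shear. -/
def dnF (b : Fin k → F) (S : Matrix (Fin k) (Fin k) F) : (OddI k → F) →ₗ[F] (OddI k → F) :=
  flipF ∘ₗ upF b S ∘ₗ flipF

theorem dnF_apply (b : Fin k → F) (S : Matrix (Fin k) (Fin k) F) (z : F) (x y : Fin k → F) :
    dnF b S (mk3 z x y) = mk3 (z + b ⬝ᵥ x) x (y - (2 * z + b ⬝ᵥ x) • b + S *ᵥ x) := by
  simp only [dnF, LinearMap.comp_apply, flipF_apply, upF_apply]

theorem upF_comp (b b' : Fin k → F) (S S' : Matrix (Fin k) (Fin k) F) :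
    (upF b S) ∘ₗ (upF b' S') = upF (b + b') (S + S' + wedge b' b) := by
  refine LinearMap.ext fun v => ?_
  rw [← mk3_eta v, LinearMap.comp_apply, upF_apply, upF_apply, upF_apply]
  simp only [add_dotProduct, add_mulVec, wedge, sub_mulVec, outer_mulVec]
  congr 1
  · ring
  · module

theorem upF_zero : upF (0 : Fin k → F) 0 = LinearMap.id := by
  refine LinearMap.ext fun v => ?_
  rw [← mk3_eta v, upF_apply]
  simp

theorem dnF_comp (b b' : Fin k → F) (S S' : Matrix (Fin k) (Fin k) F) :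
    (dnF b S) ∘ₗ (dnF b' S') = dnF (b + b') (S + S' + wedge b' b) := by
  refine LinearMap.ext fun v => ?_
  rw [← mk3_eta v, dnF, dnF, dnF, ← upF_comp]
  simp only [LinearMap.comp_apply, flipF_apply, upF_apply]

theorem dnF_zero : dnF (0 : Fin k → F) 0 = LinearMap.id := by
  refine LinearMap.ext fun v => ?_
  rw [← mk3_eta v, dnF_apply]
  simp

theorem wedge_self (b : Fin k → F) : wedge b b = 0 := sub_self _

theorem wedge_neg (b : Fin k → F) : wedge (-b) b = 0 := by
  simp [wedge, neg_vecMulVec, vecMulVec_neg]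

theorem upF_iso {b : Fin k → F} {S : Matrix (Fin k) (Fin k) F} (hS : IsAltM S) (v : OddI k → F) :
    Cfsg.quadFormOdd k F (upF b S v) = Cfsg.quadFormOdd k F v := by
  rw [← mk3_eta v, upF_apply, odd_val, odd_val]
  simp only [add_dotProduct, sub_dotProduct, smul_dotProduct, smul_eq_mul]
  rw [dotProduct_comm (S *ᵥ _), hS]
  ring

theorem flipF_iso (v : OddI k → F) : Cfsg.quadFormOdd k F (flipF v) = Cfsg.quadFormOdd k F v := by
  rw [← mk3_eta v, flipF_apply, odd_val, odd_val, dotProduct_comm]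

theorem dnF_iso {b : Fin k → F} {S : Matrix (Fin k) (Fin k) F} (hS : IsAltM S) (v : OddI k → F) :
    Cfsg.quadFormOdd k F (dnF b S v) = Cfsg.quadFormOdd k F v := by
  rw [dnF, LinearMap.comp_apply, LinearMap.comp_apply, flipF_iso, upF_iso hS, flipF_iso]

/-- The action of an isometry. -/
def act (g : OddO k F) (v : OddI k → F) : OddI k → F := g.1.1 *ᵥ v

theorem act_mul (g h : OddO k F) (v : OddI k → F) : act (g * h) v = act g (act h v) := by
  show (g.1.1 * h.1.1) *ᵥ v = g.1.1 *ᵥ (h.1.1 *ᵥ v)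
  rw [mulVec_mulVec]

theorem act_one (v : OddI k → F) : act (1 : OddO k F) v = v := one_mulVec v

theorem act_add (g : OddO k F) (u v : OddI k → F) : act g (u + v) = act g u + act g v := mulVec_add _ _ _

theorem act_smul (g : OddO k F) (c : F) (v : OddI k → F) : act g (c • v) = c • act g v := mulVec_smul _ _ _

theorem act_val (g : OddO k F) (v : OddI k → F) :
    Cfsg.quadFormOdd k F (act g v) = Cfsg.quadFormOdd k F v := iso_apply g v

theorem act_ext {g h : OddO k F} (H : ∀ z x y, act g (mk3 z x y) = act h (mk3 z x y)) : g = h :=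
  Subtype.ext (Units.ext (Matrix.ext_iff_mulVec.2 fun v => by rw [← mk3_eta v]; exact H _ _ _))

theorem exists_act (φ φ' : (OddI k → F) →ₗ[F] (OddI k → F)) (h : φ ∘ₗ φ' = LinearMap.id)
    (hiso : ∀ v, Cfsg.quadFormOdd k F (φ v) = Cfsg.quadFormOdd k F v) :
    ∃ g : OddO k F, ∀ v, act g v = φ v :=
  ⟨isoMk (LinearMap.toMatrix' φ) (LinearMap.toMatrix' φ') (by rw [← LinearMap.toMatrix'_comp, h, LinearMap.toMatrix'_id])
    (fun v => by rw [LinearMap.toMatrix'_mulVec]; exact hiso v), fun v => LinearMap.toMatrix'_mulVec φ v⟩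

theorem exists_up (b : Fin k → F) {S : Matrix (Fin k) (Fin k) F} (hS : IsAltM S) :
    ∃ g : OddO k F, ∀ v, act g v = upF b S v :=
  exists_act _ (upF (-b) (-S)) (by rw [upF_comp, add_neg_cancel, add_neg_cancel, wedge_neg, add_zero, upF_zero])
    (upF_iso hS)

theorem exists_dn (b : Fin k → F) {S : Matrix (Fin k) (Fin k) F} (hS : IsAltM S) :
    ∃ g : OddO k F, ∀ v, act g v = dnF b S v :=
  exists_act _ (dnF (-b) (-S)) (by rw [dnF_comp, add_neg_cancel, add_neg_cancel, wedge_neg, add_zero, dnF_zero])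
    (dnF_iso hS)

theorem act_inv_up {g : OddO k F} {b : Fin k → F} {S : Matrix (Fin k) (Fin k) F}
    (h : ∀ v, act g v = upF b S v) (v : OddI k → F) : act g⁻¹ v = upF (-b) (-S) v := by
  have e : v = act g (upF (-b) (-S) v) := by
    rw [h, ← LinearMap.comp_apply, upF_comp, add_neg_cancel, add_neg_cancel, wedge_neg, add_zero, upF_zero]
    rfl
  conv_lhs => rw [e, ← act_mul, inv_mul_cancel, act_one]

theorem act_inv_dn {g : OddO k F} {b : Fin k → F} {S : Matrix (Fin k) (Fin k) F}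
    (h : ∀ v, act g v = dnF b S v) (v : OddI k → F) : act g⁻¹ v = dnF (-b) (-S) v := by
  have e : v = act g (dnF (-b) (-S) v) := by
    rw [h, ← LinearMap.comp_apply, dnF_comp, add_neg_cancel, add_neg_cancel, wedge_neg, add_zero, dnF_zero]
    rfl
  conv_lhs => rw [e, ← act_mul, inv_mul_cancel, act_one]

/-- The upper shears. -/
def oddUp (k : ℕ) (F : Type*) [Field F] : Subgroup (OddO k F) where
  carrier := {g | ∃ b S, IsAltM S ∧ ∀ v, act g v = upF b S v}
  one_mem' := ⟨0, 0, plusHyp.P_zero, fun v => by rw [act_one, upF_zero]; rfl⟩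
  mul_mem' := fun {g h} ⟨b, S, hS, e⟩ ⟨b', S', hS', e'⟩ => ⟨b + b', S + S' + wedge b' b,
    (hS.add hS').add (wedge_alt _ _), fun v => by rw [act_mul, e', e, ← LinearMap.comp_apply, upF_comp]⟩
  inv_mem' := fun {g} ⟨b, S, hS, e⟩ => ⟨-b, -S, hS.neg, act_inv_up e⟩

/-- The lower shears. -/
def oddDn (k : ℕ) (F : Type*) [Field F] : Subgroup (OddO k F) where
  carrier := {g | ∃ b S, IsAltM S ∧ ∀ v, act g v = dnF b S v}
  one_mem' := ⟨0, 0, plusHyp.P_zero, fun v => by rw [act_one, dnF_zero]; rfl⟩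
  mul_mem' := fun {g h} ⟨b, S, hS, e⟩ ⟨b', S', hS', e'⟩ => ⟨b + b', S + S' + wedge b' b,
    (hS.add hS').add (wedge_alt _ _), fun v => by rw [act_mul, e', e, ← LinearMap.comp_apply, dnF_comp]⟩
  inv_mem' := fun {g} ⟨b, S, hS, e⟩ => ⟨-b, -S, hS.neg, act_inv_dn e⟩

theorem extend_iso {M : Matrix (Fin k ⊕ Fin k) (Fin k ⊕ Fin k) F}
    (hM : ∀ v, Cfsg.quadFormPlus k F (M *ᵥ v) = Cfsg.quadFormPlus k F v) {ε : F} (hε : ε ^ 2 = 1)
    (v : OddI k → F) :
    Cfsg.quadFormOdd k F ((fromBlocks (ε • (1 : Matrix Unit Unit F)) 0 0 M) *ᵥ v) = Cfsg.quadFormOdd k F v := by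
  have h : ∀ w : OddI k → F, Cfsg.quadFormOdd k F w = w (.inl ()) ^ 2 + Cfsg.quadFormPlus k F (w ∘ Sum.inr) :=
    fun w => rfl
  rw [h, h, fromBlocks_mulVec, Sum.elim_inl, Sum.elim_comp_inr, zero_mulVec, zero_mulVec, add_zero, zero_add, hM,
    smul_mulVec, one_mulVec]
  simp [mul_pow, hε]

/-- The Levi embedding. -/
def oddLev : GL (Fin k) F →* OddO k F where
  toFun a := isoMk (fromBlocks ((1 : F) • (1 : Matrix Unit Unit F)) 0 0 (lvM a))
    (fromBlocks ((1 : F) • (1 : Matrix Unit Unit F)) 0 0 (lvM a⁻¹))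
    (by rw [fromBlocks_multiply, ← lvM_mul, mul_inv_cancel, lvM_one]; simp)
    (extend_iso (fun v => by rw [plus_hf, plus_hf]; exact leviMat_isometry k a v) (one_pow 2))
  map_one' := Subtype.ext (Units.ext (by
    show fromBlocks _ 0 0 (lvM 1) = 1
    rw [lvM_one, one_smul, fromBlocks_one]))
  map_mul' a b := Subtype.ext (Units.ext (by
    show fromBlocks _ 0 0 (lvM (a * b)) = fromBlocks _ 0 0 (lvM a) * fromBlocks _ 0 0 (lvM b)
    rw [fromBlocks_multiply, lvM_mul]; simp))

theorem act_lev (a : GL (Fin k) F) (z : F) (x y : Fin k → F) :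
    act (oddLev a) (mk3 z x y) = mk3 z (a.1 *ᵥ x) ((tinv a).1 *ᵥ y) := by
  show fromBlocks _ 0 0 (lvM a) *ᵥ _ = _
  rw [mk3, lvM, fromBlocks_mulVec, Sum.elim_comp_inl, Sum.elim_comp_inr, fromBlocks_mulVec, Sum.elim_comp_inl,
    Sum.elim_comp_inr]
  funext t; rcases t with t | t | t <;> simp [mk3]

/-- The interchange as an isometry of determinant one. -/
theorem exists_odd_flip (k : ℕ) (F : Type*) [Field F] :
    ∃ R : OddO k F, R.1.1.det = 1 ∧ ∀ z x y, act R (mk3 z x y) = mk3 ((-1) ^ k * z) y x := by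
  set W : Matrix (Fin k ⊕ Fin k) (Fin k ⊕ Fin k) F := fromBlocks 0 1 1 0 with hW
  set ε : F := (-1) ^ k with hε
  have hε2 : ε * ε = 1 := by rw [hε, ← mul_pow]; simp
  have hWW : W * W = 1 := by simp [hW, fromBlocks_multiply, fromBlocks_one]
  refine ⟨isoMk (fromBlocks (ε • (1 : Matrix Unit Unit F)) 0 0 W) (fromBlocks (ε • (1 : Matrix Unit Unit F)) 0 0 W)
    (by rw [fromBlocks_multiply, hWW]; simp [smul_smul, hε2, fromBlocks_one])
    (extend_iso (fun v => by
      rw [plus_val, plus_val, hW, fromBlocks_mulVec, Sum.elim_comp_inl, Sum.elim_comp_inr]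
      simp [dotProduct_comm]) (by rw [_root_.sq, hε2])), ?_, fun z x y => ?_⟩
  · show (fromBlocks _ 0 0 W).det = 1
    rw [det_fromBlocks_zero₂₁, det_smul, det_one, mul_one, Fintype.card_unit, pow_one, hW, det_swap_blocks, ← hε, hε2]
  · show fromBlocks _ 0 0 W *ᵥ _ = _
    rw [mk3, hW, fromBlocks_mulVec, Sum.elim_comp_inl, Sum.elim_comp_inr, fromBlocks_mulVec, Sum.elim_comp_inl,
      Sum.elim_comp_inr]
    funext t; rcases t with t | t | t <;> simp [mk3, smul_mulVec]

/-- The matrix blocks in the first column. -/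
def blkA (g : OddO k F) : Matrix (Fin k) (Fin k) F := Matrix.of fun i j => g.1.1 (.inr (.inl i)) (.inr (.inl j))

/-- The lower block in the first column. -/
def blkC (g : OddO k F) : Matrix (Fin k) (Fin k) F := Matrix.of fun i j => g.1.1 (.inr (.inr i)) (.inr (.inl j))

/-- The top block in the first column. -/
def blkZ (g : OddO k F) : Fin k → F := fun j => g.1.1 (.inl ()) (.inr (.inl j))

theorem act_x (g : OddO k F) (x : Fin k → F) :
    act g (mk3 0 x 0) = mk3 (blkZ g ⬝ᵥ x) (blkA g *ᵥ x) (blkC g *ᵥ x) := by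
  funext t
  rcases t with t | t | t <;>
    simp [act, mk3, blkA, blkC, blkZ, Matrix.mulVec, dotProduct, Fintype.sum_sum_type]

theorem blk_unique {g : OddO k F} {A C : Matrix (Fin k) (Fin k) F} {ζ : Fin k → F}
    (h : ∀ x, act g (mk3 0 x 0) = mk3 (ζ ⬝ᵥ x) (A *ᵥ x) (C *ᵥ x)) : blkZ g = ζ ∧ blkA g = A ∧ blkC g = C := by
  refine ⟨funext fun j => ?_, Matrix.ext_iff_mulVec.2 fun x => ?_, Matrix.ext_iff_mulVec.2 fun x => ?_⟩
  · have := (mk3_inj ((act_x g (Pi.single j 1)).symm.trans (h _))).1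
    simpa using this
  · exact (mk3_inj ((act_x g x).symm.trans (h x))).2.1
  · exact (mk3_inj ((act_x g x).symm.trans (h x))).2.2

theorem conj_up_blk {g u : OddO k F} {b : Fin k → F} {S : Matrix (Fin k) (Fin k) F}
    (hu : ∀ v, act u v = upF b S v) :
    blkA (u * g * u⁻¹) = blkA g - vecMulVec b ((2 : F) • blkZ g + b ᵥ* blkC g) + S * blkC g ∧
      blkC (u * g * u⁻¹) = blkC g := by
  refine (blk_unique (ζ := blkZ g + b ᵥ* blkC g) fun x => ?_).2
  rw [act_mul, act_mul, act_inv_up hu, upF_apply, dotProduct_zero, mulVec_zero, mul_zero, add_zero, zero_smul,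
    sub_zero, add_zero, act_x, hu, upF_apply]
  congr 1
  · rw [add_dotProduct, ← dotProduct_mulVec]
  · rw [add_mulVec, sub_mulVec, outer_mulVec, add_dotProduct, smul_dotProduct, ← dotProduct_mulVec, mulVec_mulVec,
      smul_eq_mul]

theorem blk_rel (g : OddO k F) (x : Fin k → F) :
    (blkZ g ⬝ᵥ x) * (blkZ g ⬝ᵥ x) + (blkA g *ᵥ x) ⬝ᵥ (blkC g *ᵥ x) = 0 := by
  have h := act_val g (mk3 0 x 0)
  rw [act_x, odd_val, odd_val, dotProduct_zero] at h
  linear_combination h

theorem blk_ker (g : OddO k F) {x : Fin k → F} (hA : blkA g *ᵥ x = 0) (hC : blkC g *ᵥ x = 0) : x = 0 := by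
  have hz : blkZ g ⬝ᵥ x = 0 := by
    have := blk_rel g x
    rw [hA, zero_dotProduct, add_zero] at this
    exact mul_self_eq_zero.1 this
  have h : act g (mk3 0 x 0) = 0 := by
    rw [act_x, hA, hC, hz]; funext t; rcases t with t | t | t <;> rfl
  have h' := congrArg (act g⁻¹) h
  rw [← act_mul, inv_mul_cancel, act_one] at h'
  exact funext fun i => (congrFun h' (.inr (.inl i))).trans (congrFun (mulVec_zero _) _)

theorem blk_zero_of_ker (g : OddO k F) {x : Fin k → F} (hA : blkA g *ᵥ x = 0) : blkZ g ⬝ᵥ x = 0 := by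
  have := blk_rel g x
  rw [hA, zero_dotProduct, add_zero] at this
  exact mul_self_eq_zero.1 this

end Cfsg.Agent.Lib.ThompsonSquare
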