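import Cfsg.Agent.Lib.Orth52.LeviHom
import Cfsg.Agent.Lib.ThompsonSquare.Classical.Datum

/-!
Correcting the spinor norm by a Levi element, and isometries given by matrices.
-/

set_option autoImplicit false

namespace Cfsg.Agent.Lib.ThompsonSquare

open Module QuadraticMap
open Cfsg.Agent.Lib.Forms Cfsg.Agent.Lib.Orth52
open scoped Matrix

variable {F : Type*} [Field F]

/-- An isometry from a matrix with an inverse. -/
def isoMk {ι : Type} [Fintype ι] [DecidableEq ι] {f : (ι → F) → F} (M M' : Matrix ι ι F) (h1 : M * M' = 1)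
    (hf : ∀ v, f (M *ᵥ v) = f v) : Cfsg.isometryGroup F f :=
  ⟨⟨M, M', h1, mul_eq_one_comm.1 h1⟩, fun u _ => hf u⟩

theorem iso_apply {ι : Type} [Fintype ι] [DecidableEq ι] {f : (ι → F) → F} (g : Cfsg.isometryGroup F f)
    (v : ι → F) : f (g.1.1 *ᵥ v) = f v := g.2 v v

/-- The matrix of an isometry. -/
def isoMat {ι : Type} [Fintype ι] [DecidableEq ι] (f : (ι → F) → F) :
    Cfsg.isometryGroup F f →* Matrix ι ι F :=
  (Units.coeHom (Matrix ι ι F)).comp (Cfsg.isometryGroup F f).subtype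

theorem isoMat_injective {ι : Type} [Fintype ι] [DecidableEq ι] (f : (ι → F) → F) :
    Function.Injective (isoMat (F := F) f) := fun _ _ h => Subtype.ext (Units.ext h)

variable [Fintype F] {ι : Type} [Fintype ι] [DecidableEq ι]

omit [DecidableEq ι] in
theorem exists_adjust {k : ℕ} {q : QuadraticForm F (ι → F)} (hQ : Nondeg q) (hn : 2 ≤ finrank F (ι → F))
    (hex : (∃ a : F, a ≠ 0 ∧ a ≠ 1) ∨ finrank F (ι → F) ≠ 4) (L : GL (Fin k) F →* orth q)
    (hL : ∀ A : GL (Fin k) F, L A ∈ commutator (orth q) ↔ IsSquare A.1.det)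
    (hL0 : ∀ A : GL (Fin k) F, dickson q (L A) = 0) {x : orth q} (hx : dickson q x = 0) :
    ∃ u : Fˣ, ∀ K : GL (Fin k) F, K.1.det = u → L K * x ∈ commutator (orth q) := by
  classical
  by_cases hc : x ∈ commutator (orth q)
  · exact ⟨1, fun K hK => mul_mem ((hL K).2 (by rw [hK]; simp)) hc⟩
  by_cases h2 : (2 : F) = 0
  · exact absurd ((mem_commutator_iff_two hQ h2 hn hex x).2 hx) hc
  have hchar : ringChar F ≠ 2 := fun h => h2 (by
    have : CharP F 2 := h ▸ ringChar.charP F
    exact CharTwo.two_eq_zero)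
  obtain ⟨a, ha⟩ := FiniteField.exists_nonsquare hchar
  have ha0 : a ≠ 0 := fun h => ha (h ▸ IsSquare.zero)
  refine ⟨Units.mk0 a ha0, fun K hK => (mem_commutator_iff_spin hQ h2 hn _).2 ⟨?_, ?_⟩⟩
  · rw [dickson_mul hQ hex, hL0, hx, add_zero]
  · have hK' : L K ∉ commutator (orth q) := fun h => ha (by simpa [hK] using (hL K).1 h)
    rw [mem_commutator_iff_spin hQ h2 hn, and_iff_right (hL0 K)] at hK'
    rw [mem_commutator_iff_spin hQ h2 hn, and_iff_right hx] at hc
    rw [map_mul, (Int.units_eq_one_or _).resolve_left hK', (Int.units_eq_one_or _).resolve_left hc]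
    rfl

end Cfsg.Agent.Lib.ThompsonSquare
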