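import Cfsg.Agent.Lib.ThompsonSquare.Classical.Symp
import Cfsg.Agent.Lib.ThompsonSquare.Classical.Spin
import Cfsg.Agent.Lib.Orth52.PlusClasses

/-!
Thompson's statement for the hyperbolic orthogonal groups.
-/

set_option autoImplicit false

namespace Cfsg.Agent.Lib.ThompsonSquare

open Matrix Module Cfsg.Agent.Lib.Sourour Cfsg.Agent.Lib.Forms Cfsg.Agent.Lib.Orth52

variable {F : Type*} [Field F] {k : ℕ}

/-- `O⁺_{2k}`. -/
abbrev PlusO (k : ℕ) (F : Type*) [Field F] := Cfsg.isometryGroup F (Cfsg.quadFormPlus k F)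

theorem plus_val (v : Fin k ⊕ Fin k → F) :
    Cfsg.quadFormPlus k F v = (v ∘ Sum.inl) ⬝ᵥ (v ∘ Sum.inr) := rfl

theorem plus_hf (v : Fin k ⊕ Fin k → F) : Cfsg.quadFormPlus k F v = qPlus k v :=
  congrFun (quadFormPlus_eq k) v

theorem upM_iso {Z : Matrix (Fin k) (Fin k) F} (h : IsAltM Z) (v : Fin k ⊕ Fin k → F) :
    Cfsg.quadFormPlus k F (upM Z *ᵥ v) = Cfsg.quadFormPlus k F v := by
  rw [plus_val, plus_val, upM, fromBlocks_mulVec, Sum.elim_comp_inl, Sum.elim_comp_inr, one_mulVec, zero_mulVec,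
    zero_add, one_mulVec, add_dotProduct, dotProduct_comm (Z *ᵥ _), h, add_zero]

theorem dnM_iso {Z : Matrix (Fin k) (Fin k) F} (h : IsAltM Z) (v : Fin k ⊕ Fin k → F) :
    Cfsg.quadFormPlus k F (dnM Z *ᵥ v) = Cfsg.quadFormPlus k F v := by
  rw [plus_val, plus_val, dnM, fromBlocks_mulVec, Sum.elim_comp_inl, Sum.elim_comp_inr, one_mulVec, zero_mulVec,
    add_zero, one_mulVec, dotProduct_add, h, zero_add]

theorem IsAltM.neg {Z : Matrix (Fin k) (Fin k) F} (h : IsAltM Z) : IsAltM (-Z) :=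
  fun x => by rw [neg_mulVec, dotProduct_neg, h x, neg_zero]

/-- The Levi embedding. -/
def plusLev : GL (Fin k) F →* PlusO k F where
  toFun a := isoMk (lvM a) (lvM a⁻¹) (by rw [← lvM_mul, mul_inv_cancel, lvM_one])
    (fun v => by rw [plus_hf, plus_hf]; exact leviMat_isometry k a v)
  map_one' := Subtype.ext (Units.ext lvM_one)
  map_mul' a b := Subtype.ext (Units.ext (lvM_mul a b))

theorem plus_rel (g : PlusO k F) (x y : Fin k → F) :
    (g.1.1.toBlocks₁₁ *ᵥ x + g.1.1.toBlocks₁₂ *ᵥ y) ⬝ᵥ (g.1.1.toBlocks₂₁ *ᵥ x + g.1.1.toBlocks₂₂ *ᵥ y) =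
      x ⬝ᵥ y := by
  have h := iso_apply g (Sum.elim x y)
  rw [plus_val, plus_val, ← fromBlocks_toBlocks g.1.1, fromBlocks_mulVec] at h
  simpa using h

/-- The hyperbolic orthogonal group. -/
def plusHyp : Hyp (PlusO k F) F k where
  P := IsAltM
  P_zero := fun x => by rw [zero_mulVec, dotProduct_zero]
  P_add _ _ h h' := h.add h'
  P_neg _ h := h.neg
  P_smul c _ h := h.smul c
  P_congr K Z h x := by
    rw [← mulVec_mulVec, ← mulVec_mulVec, dotProduct_mulVec, ← mulVec_transpose]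
    exact h _
  mat := isoMat _
  inj := isoMat_injective _
  exUp Z h := ⟨isoMk (upM Z) (upM (-Z)) (by rw [upM_mul, add_neg_cancel, upM_zero]) (upM_iso h), rfl⟩
  exDn Z h := ⟨isoMk (dnM Z) (dnM (-Z)) (by rw [dnM_mul, add_neg_cancel, dnM_zero]) (dnM_iso h), rfl⟩
  lev := plusLev
  mat_lev _ := rfl
  low g hA x := by
    change IsUnit g.1.1.toBlocks₁₁.det at hA
    have h := plus_rel g (g.1.1.toBlocks₁₁⁻¹ *ᵥ x) 0
    simp only [mulVec_zero, add_zero, dotProduct_zero, mulVec_mulVec, mul_nonsing_inv _ hA, one_mulVec] at h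
    exact h
  tri g hC := by
    show g.1.1.toBlocks₂₂ = (g.1.1.toBlocks₁₁⁻¹)ᵀ ∧ IsUnit g.1.1.toBlocks₁₁.det ∧
      IsAltM (g.1.1.toBlocks₁₁⁻¹ * g.1.1.toBlocks₁₂)
    change g.1.1.toBlocks₂₁ = 0 at hC
    have hBD : ∀ y, (g.1.1.toBlocks₁₂ *ᵥ y) ⬝ᵥ (g.1.1.toBlocks₂₂ *ᵥ y) = 0 := fun y => by
      simpa [hC] using plus_rel g 0 y
    have hAD : g.1.1.toBlocks₁₁ᵀ * g.1.1.toBlocks₂₂ = 1 := by
      refine Matrix.ext fun i j => ?_
      have h := plus_rel g (Pi.single i 1) (Pi.single j 1)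
      rw [hC, zero_mulVec, zero_add, add_dotProduct, hBD, add_zero, mulVec_single_one, mulVec_single_one] at h
      rw [Matrix.mul_apply]
      simp only [Matrix.transpose_apply]
      refine h.trans ?_
      simp [Matrix.one_apply, Pi.single_apply, eq_comm]
    have hA : IsUnit g.1.1.toBlocks₁₁.det := by
      have := congrArg Matrix.det hAD
      rw [det_mul, det_transpose, det_one] at this
      exact IsUnit.of_mul_eq_one _ this
    have hD : g.1.1.toBlocks₂₂ = (g.1.1.toBlocks₁₁⁻¹)ᵀ := by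
      rw [transpose_nonsing_inv]; exact (inv_eq_right_inv hAD).symm
    refine ⟨hD, hA, fun y => ?_⟩
    have h := hBD y
    rw [hD, dotProduct_mulVec, vecMul_transpose, mulVec_mulVec, dotProduct_comm] at h
    exact h

theorem isoOrth_plusLev (a : GL (Fin k) F) : isoOrth (qPlus (F := F) k) plus_hf (plusLev a) = leviHom k a := by
  apply Subtype.ext
  ext v : 1
  rw [isoOrth_apply, leviHom_apply]
  rfl

theorem wedge_sandwich (A : Matrix (Fin k) (Fin k) F) (u v : Fin k → F) :
    Aᵀ * wedge u v * A = wedge (u ᵥ* A) (v ᵥ* A) := by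
  simp only [wedge, mul_sub, sub_mul, mul_vecMulVec, vecMulVec_mul, mulVec_transpose]

theorem alt_fix0 (hk : 3 ≤ k) {A B : Matrix (Fin k) (Fin k) F} (hA : ∀ Y, IsAltM Y → Aᵀ * Y * A = Y)
    (hB : ∀ Y, IsAltM Y → Y * B * Y = 0) : B = 0 ∧ ∃ d : F, d * d = 1 ∧ A = d • 1 := by
  classical
  have h0 : 0 < k := by omega
  have : Nontrivial (Fin k) := Fin.nontrivial_iff_two_le.2 (by omega)
  have hminor : ∀ a b i j, A a i * A b j - A b i * A a j =
      (if a = i ∧ b = j then (1 : F) else 0) - (if b = i ∧ a = j then 1 else 0) := by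
    intro a b i j
    have := congrFun (congrFun (hA _ (wedge_alt (Pi.single a 1) (Pi.single b 1))) i) j
    rw [wedge_sandwich] at this
    simpa [wedge, vecMulVec_apply, Pi.single_apply, eq_comm, ← ite_and, ite_mul, and_comm] using this
  have hout : ∀ a b i, a ≠ b → i ≠ a → i ≠ b → A a i = 0 := by
    intro a b i hab hia hib
    have e1 : A a i * A b b - A b i * A a b = 0 := by simpa [hia.symm, hib.symm] using hminor a b i b
    have e2 : A a i * A b a - A b i * A a a = 0 := by simpa [hia.symm, hib.symm] using hminor a b i a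
    have e3 : A a a * A b b - A b a * A a b = 1 := by simpa [hab, hab.symm] using hminor a b a b
    linear_combination (A a a) * e1 - (A a b) * e2 - (A a i) * e3
  have third : ∀ a b : Fin k, ∃ c, c ≠ a ∧ c ≠ b := by
    intro a b
    obtain ⟨c, -, hc⟩ := Finset.exists_mem_notMem_of_card_lt_card (s := ({a, b} : Finset (Fin k))) (t := Finset.univ)
      (by rw [Finset.card_univ, Fintype.card_fin]; exact Finset.card_le_two.trans_lt (by omega))
    exact ⟨c, by simp_all⟩
  have hoff : ∀ a i, i ≠ a → A a i = 0 := by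
    intro a i h
    obtain ⟨c, hca, hci⟩ := third a i
    exact hout a c i hca.symm h hci.symm
  have hpair : ∀ a b, a ≠ b → A a a * A b b = 1 := fun a b h => by
    simpa [h, h.symm, hoff b a h, hoff a b h.symm] using hminor a b a b
  refine ⟨?_, ?_⟩
  · ext i j
    have key : ∀ a b x y : Fin k, ((wedge (Pi.single a (1 : F)) (Pi.single b 1)) * B *
        (wedge (Pi.single a (1 : F)) (Pi.single b 1)) : Matrix (Fin k) (Fin k) F) x y =
        (if a = x ∧ b = y then B b a else 0) - (if a = x ∧ a = y then B b b else 0)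
          - (if b = x ∧ b = y then B a a else 0) + (if b = x ∧ a = y then B a b else 0) := by
      intro a b x y
      have hw : wedge (Pi.single a (1 : F)) (Pi.single b 1) = Matrix.single a b 1 - Matrix.single b a 1 := by
        rw [wedge, Matrix.single_eq_single_vecMulVec_single, Matrix.single_eq_single_vecMulVec_single]
      rw [hw]
      simp only [sub_mul, mul_sub, Matrix.sub_apply, single_sandwich]
      ring
    by_cases h : i = j
    · subst h
      obtain ⟨a, ha⟩ := exists_ne i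
      have := congrFun (congrFun (hB _ (wedge_alt (Pi.single a 1) (Pi.single i 1))) a) a
      rw [key] at this
      simpa [ha, ha.symm] using this
    · have := congrFun (congrFun (hB _ (wedge_alt (Pi.single j 1) (Pi.single i 1))) j) i
      rw [key] at this
      simpa [h, Ne.symm h] using this
  · obtain ⟨c, hc1, -⟩ := third ⟨0, h0⟩ ⟨0, h0⟩
    obtain ⟨c', hc'1, hc'2⟩ := third ⟨0, h0⟩ c
    have p1 := hpair _ _ hc1
    have p2 := hpair _ _ hc'1
    have p3 := hpair _ _ hc'2
    set d := A ⟨0, h0⟩ ⟨0, h0⟩ with hd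
    have hsq : d * d = 1 := by linear_combination (-(d * d)) * p3 + (A c' c' * d) * p1 + p2
    refine ⟨d, hsq, ?_⟩
    ext i j
    by_cases h : i = j
    · subst h
      by_cases hi : i = ⟨0, h0⟩
      · simp [hi, hd]
      · have h1 : A i i * d = 1 := hpair i ⟨0, h0⟩ hi
        rw [Matrix.smul_apply, one_apply_eq, smul_eq_mul, mul_one]
        linear_combination d * h1 - (A i i) * hsq
    · simp [h, hoff i j (Ne.symm h)]

variable [Fintype F]

theorem plus_exception (hF : 3 ≤ Fintype.card F) :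
    (∃ a : F, a ≠ 0 ∧ a ≠ 1) ∨ finrank F (Fin k ⊕ Fin k → F) ≠ 4 :=
  exception_of_card rfl (Or.inl (by omega))

theorem dickson_plus_Omega (hF : 3 ≤ Fintype.card F) {g : PlusO k F}
    (hg : g ∈ Cfsg.Omega F (Cfsg.quadFormPlus k F)) : dickson (qPlus (F := F) k) (isoOrth (qPlus (F := F) k) plus_hf g) = 0 := by
  have h := Abelianization.commutator_subset_ker (dicksonHom (qPlus_nondeg k) (plus_exception hF))
    ((mem_Omega_iff_orth (qPlus (F := F) k) plus_hf g).1 hg)
  exact Multiplicative.ofAdd.injective h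

theorem plusLev_mem_iff (hk : 1 ≤ k) (hF : 3 ≤ Fintype.card F) (a : GL (Fin k) F) :
    plusLev a ∈ Cfsg.Omega F (Cfsg.quadFormPlus k F) ↔ IsSquare a.1.det := by
  rw [mem_Omega_iff_orth (qPlus (F := F) k) plus_hf, isoOrth_plusLev, leviHom_mem_iff hk (Or.inl (by omega))]

theorem even_corank (hF : 3 ≤ Fintype.card F) {g : PlusO k F}
    (hg : g ∈ Cfsg.Omega F (Cfsg.quadFormPlus k F)) :
    Even (finrank F (LinearMap.ker g.1.1.toBlocks₁₁.mulVecLin)) := by
  set γ := isoOrth (qPlus (F := F) k) plus_hf g with hγ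
  have hd : dickson (qPlus (F := F) k) (swapOrth k * γ) = (k : ZMod 2) := by
    rw [dickson_mul (qPlus_nondeg k) (plus_exception hF), hγ, dickson_plus_Omega hF hg, add_zero,
      dickson_plus_parity (Or.inl (by omega)), inf_map_eq_bot _ fun v hv i => hv i, finrank_bot, Nat.sub_zero]
  rw [dickson_plus_parity (Or.inl (by omega))] at hd
  let L : ↥(LinearMap.ker g.1.1.toBlocks₁₁.mulVecLin) →ₗ[F] (Fin k ⊕ Fin k → F) :=
    { toFun := fun x => Sum.elim (g.1.1.toBlocks₂₁ *ᵥ x.1) 0
      map_add' := fun x y => by funext i; rcases i with i | i <;> simp [mulVec_add]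
      map_smul' := fun c x => by funext i; rcases i with i | i <;> simp [mulVec_smul] }
  have hL : Function.Injective L := by
    intro x y h
    refine Subtype.ext (sub_eq_zero.1 (Hyp.joint_ker plusHyp g (x.1 - y.1) ?_ ?_))
    · show g.1.1.toBlocks₁₁ *ᵥ _ = 0
      rw [mulVec_sub, show g.1.1.toBlocks₁₁ *ᵥ x.1 = 0 from LinearMap.mem_ker.1 x.2,
        show g.1.1.toBlocks₁₁ *ᵥ y.1 = 0 from LinearMap.mem_ker.1 y.2, sub_zero]
    · show g.1.1.toBlocks₂₁ *ᵥ _ = 0
      rw [mulVec_sub, sub_eq_zero]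
      funext i; exact congrFun h (Sum.inl i)
  have hγv : ∀ x : Fin k → F, (swapOrth k * γ).1 (Sum.elim x 0) =
      Sum.elim (g.1.1.toBlocks₂₁ *ᵥ x) (g.1.1.toBlocks₁₁ *ᵥ x) := by
    intro x
    funext i
    show (swapOrth (F := F) k).1 (γ.1 (Sum.elim x 0)) i = _
    rw [swapOrth_apply, hγ, isoOrth_apply, ← fromBlocks_toBlocks g.1.1, fromBlocks_mulVec]
    rcases i with i | i <;> simp
  have hrange : stdU F k ⊓ (stdU F k).map (swapOrth k * γ).1.toLinearMap = LinearMap.range L := by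
    apply le_antisymm
    · rintro _ ⟨hz, v, hv, rfl⟩
      have hv' : v = Sum.elim (v ∘ Sum.inl) 0 := by
        funext i; rcases i with i | i
        · rfl
        · exact mem_stdU.1 hv i
      rw [LinearEquiv.coe_coe, hv', hγv] at hz ⊢
      refine ⟨⟨v ∘ Sum.inl, LinearMap.mem_ker.2 (funext fun i => mem_stdU.1 hz i)⟩, ?_⟩
      funext i; rcases i with i | i
      · rfl
      · exact (mem_stdU.1 hz i).symm
    · rintro _ ⟨x, rfl⟩
      refine ⟨mem_stdU.2 fun i => rfl, Sum.elim x.1 0, mem_stdU.2 fun i => rfl, ?_⟩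
      rw [LinearEquiv.coe_coe, hγv, show g.1.1.toBlocks₁₁ *ᵥ x.1 = 0 from LinearMap.mem_ker.1 x.2]
      rfl
  rw [hrange, LinearMap.finrank_range_of_inj hL] at hd
  have hle : finrank F (LinearMap.ker g.1.1.toBlocks₁₁.mulVecLin) ≤ k :=
    (Submodule.finrank_le _).trans_eq (finrank_fin_fun F)
  rw [Nat.cast_sub hle, sub_eq_self] at hd
  exact ZMod.natCast_eq_zero_iff_even.1 hd

theorem plus_fix (hk : 4 ≤ k) (hF : 3 ≤ Fintype.card F)
    (hsh : (plusHyp (F := F) (k := k)).upGroup ≤ commutator (PlusO k F) ∧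
      (plusHyp (F := F) (k := k)).dnGroup ≤ commutator (PlusO k F))
    {d : F} (hd : d ≠ 0) (hdsq : IsSquare d) :
    ∀ (r : ℕ) (g : PlusO k F), finrank F (LinearMap.ker g.1.1.toBlocks₁₁.mulVecLin) = r →
      g ∈ Cfsg.Omega F (Cfsg.quadFormPlus k F) → g.1.1.toBlocks₂₁ ≠ 0 →
      ∃ S, IsAltM S ∧ (g.1.1.toBlocks₁₁ + S * g.1.1.toBlocks₂₁).det = d ∧
        NonScalar (g.1.1.toBlocks₁₁ + S * g.1.1.toBlocks₂₁) := by
  intro r
  induction r using Nat.strong_induction_on with
  | h r ih =>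
    intro g hr hg hC
    by_cases hA : g.1.1.toBlocks₁₁.det = 0
    · have hpos : 0 < finrank F (LinearMap.ker g.1.1.toBlocks₁₁.mulVecLin) := by
        obtain ⟨⟨x, hx, hx'⟩, -⟩ := exists_kernel hA
        exact Module.finrank_pos_iff_exists_ne_zero.2 ⟨⟨x, LinearMap.mem_ker.2 hx'⟩,
          fun e => hx (congrArg Subtype.val e)⟩
      obtain ⟨t, ht⟩ := even_corank hF hg
      obtain ⟨S, hS, hlt⟩ := plus_raise (Hyp.joint_ker plusHyp g) hA (by
        show 2 ≤ finrank F (LinearMap.ker g.1.1.toBlocks₁₁.mulVecLin); omega)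
      obtain ⟨u, hu⟩ := (plusHyp (F := F) (k := k)).exUp S hS
      have hu' : u ∈ Cfsg.Omega F (Cfsg.quadFormPlus k F) := hsh.1 ⟨S, hS, hu⟩
      obtain ⟨h11, h21⟩ := Hyp.conj_up plusHyp g u hu
      change (u * g * u⁻¹).1.1.toBlocks₁₁ = g.1.1.toBlocks₁₁ + S * g.1.1.toBlocks₂₁ at h11
      change (u * g * u⁻¹).1.1.toBlocks₂₁ = g.1.1.toBlocks₂₁ at h21
      obtain ⟨S', hS', h1, h2⟩ := ih _ (hr ▸ hlt) (u * g * u⁻¹) (by rw [h11]; rfl)
        (mul_mem (mul_mem hu' hg) (inv_mem hu')) (by rwa [h21])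
      rw [h11, h21] at h1 h2
      exact ⟨S + S', hS.add hS', by rwa [add_mul, ← add_assoc], by rwa [add_mul, ← add_assoc]⟩
    · obtain ⟨v, hv, a, q, hq, ha, e⟩ := Hyp.gauss plusHyp g (Ne.isUnit hA)
      change a.1 = g.1.1.toBlocks₁₁ at ha
      have hla : plusLev a ∈ Cfsg.Omega F (Cfsg.quadFormPlus k F) := by
        have : plusLev a = v⁻¹ * g * q⁻¹ := by
          show plusHyp.lev a = _
          rw [e]; group
        rw [this]
        exact mul_mem (mul_mem (inv_mem (hsh.2 hv)) hg) (inv_mem (hsh.1 hq))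
      refine plus_det (by omega) (Ne.isUnit hA) hC (fun x => ?_) ?_ hd hdsq
      · have := plus_rel g x 0
        simpa using this
      · rw [← ha]; exact (plusLev_mem_iff (by omega) hF a).1 hla

/-- The interchange away from the isolated coordinate. -/
theorem exists_plus_flip (hF : 3 ≤ Fintype.card F) (p : Fin k → Prop) [DecidablePred p]
    (hp : ∀ i j, p i → p j → i = j) (heven : (∃ i, p i) ↔ Odd k) :
    ∃ R : PlusO k F, dickson (qPlus (F := F) k) (isoOrth (qPlus (F := F) k) plus_hf R) = 0 ∧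
      ∀ v : Fin k ⊕ Fin k → F, R.1.1 *ᵥ v =
        Sum.elim (fun i => if p i then v (Sum.inl i) else v (Sum.inr i))
          (fun i => if p i then v (Sum.inr i) else v (Sum.inl i)) := by
  let π : Fin k ⊕ Fin k → Fin k ⊕ Fin k := fun z => if p (Sum.elim id id z) then z else z.swap
  have hπ : Function.Involutive π := fun z => by
    rcases z with i | i <;> by_cases h : p i <;> simp [π, h]
  let o : orth (qPlus (F := F) k) := ⟨LinearEquiv.funCongrLeft F F (Function.Involutive.toPerm π hπ), fun v => by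
    rw [qPlus_apply, qPlus_apply]
    refine Finset.sum_congr rfl fun i _ => ?_
    show v (π (Sum.inl i)) * v (π (Sum.inr i)) = _
    by_cases h : p i <;> simp [π, h, mul_comm]⟩
  obtain ⟨R, hR⟩ := (isoOrth (qPlus (F := F) k) plus_hf).surjective o
  refine ⟨R, ?_, fun v => ?_⟩
  · rw [hR, dickson_plus_parity (Or.inl (by omega))]
    by_cases hodd : Odd k
    · obtain ⟨z, hz⟩ := heven.2 hodd
      have hone : stdU F k ⊓ (stdU F k).map o.1.toLinearMap = F ∙ (Pi.single (Sum.inl z) 1) := by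
        apply le_antisymm
        · rintro _ ⟨hw, v, hv, rfl⟩
          refine Submodule.mem_span_singleton.2 ⟨v (Sum.inl z), ?_⟩
          funext t
          show _ = v (π t)
          rcases t with i | i
          · by_cases h : p i
            · obtain rfl := hp i z h hz; simp [π, h]
            · have hne : i ≠ z := fun e => h (e ▸ hz)
              simp [π, h, hne, mem_stdU.1 hv i]
          · have : v (π (Sum.inr i)) = 0 := mem_stdU.1 hw i
            simp [this]
        · rw [Submodule.span_singleton_le_iff_mem]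
          refine ⟨mem_stdU.2 fun i => by simp, Pi.single (Sum.inl z) 1, mem_stdU.2 fun i => by simp, ?_⟩
          funext t
          show (Pi.single (Sum.inl z) 1 : Fin k ⊕ Fin k → F) (π t) = _
          rcases t with i | i <;> by_cases h : p i
          · simp [π, h]
          · have hne : i ≠ z := fun e => h (e ▸ hz)
            simp [π, h, hne]
          · simp [π, h]
          · have hne : i ≠ z := fun e => h (e ▸ hz)
            simp [π, h, hne]
      rw [hone, finrank_span_singleton (by simp)]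
      obtain ⟨t, rfl⟩ := hodd
      exact ZMod.natCast_eq_zero_iff_even.2 (by simp)
    · have hno : ∀ i, ¬ p i := fun i h => hodd (heven.1 ⟨i, h⟩)
      rw [inf_map_eq_bot o fun v hv i => show v (π (Sum.inl i)) = 0 by simp [π, hno i, hv i], finrank_bot,
        Nat.sub_zero]
      exact ZMod.natCast_eq_zero_iff_even.2 (Nat.not_odd_iff_even.1 hodd)
  · rw [← isoOrth_apply (qPlus (F := F) k) plus_hf, hR]
    funext t
    show v (π t) = _
    rcases t with i | i <;> by_cases h : p i <;> simp [π, h]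

omit [Fintype F] in
theorem flip_sum (p : Fin k → Prop) [DecidablePred p] {c : Matrix (Fin k) (Fin k) F}
    (h1 : ∀ i j, p i → c i j = if i = j then 1 else 0) (h2 : ∀ i j, p i → c j i = if i = j then 1 else 0)
    (i : Fin k) (x y : Fin k → F) :
    (c *ᵥ fun j => if p j then x j else y j) i = if p i then x i else (c *ᵥ y) i := by
  by_cases h : p i
  · rw [if_pos h]
    show ∑ j, c i j * _ = _
    rw [Finset.sum_eq_single i]
    · rw [h1 i i h, if_pos rfl, one_mul, if_pos h]
    · intro j _ hj; rw [h1 i j h, if_neg (Ne.symm hj), zero_mul]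
    · simp
  · rw [if_neg h]
    show ∑ j, c i j * _ = ∑ j, c i j * y j
    refine Finset.sum_congr rfl fun j _ => ?_
    show c i j * _ = c i j * y j
    by_cases hj : p j
    · rw [h2 j i hj, if_neg (show j ≠ i by rintro rfl; exact h hj), zero_mul, zero_mul]
    · rw [if_neg hj]

omit [Fintype F] in
theorem unit_line {a : GL (Fin k) F} {z : Fin k} (h1 : ∀ j, a.1 z j = if z = j then 1 else 0)
    (h2 : ∀ j, a.1 j z = if z = j then 1 else 0) :
    (∀ j, (a⁻¹).1 z j = if z = j then 1 else 0) ∧ ∀ j, (a⁻¹).1 j z = if z = j then 1 else 0 := by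
  refine ⟨fun j => ?_, fun j => ?_⟩
  · have := congrFun (congrFun a.mul_inv z) j
    simpa [Matrix.mul_apply, h1, Matrix.one_apply] using this
  · have := congrFun (congrFun a.inv_mul j) z
    simpa [Matrix.mul_apply, h2, Matrix.one_apply, eq_comm] using this

theorem plus_real (hk : 1 ≤ k) (hF : 3 ≤ Fintype.card F) (c : GL (Fin k) F) (p : Fin k → Prop) [DecidablePred p]
    (hp : ∀ i j, p i → p j → i = j) (heven : (∃ i, p i) ↔ Odd k)
    (hc1 : ∀ i j, p i → c.1 i j = if i = j then 1 else 0) (hc2 : ∀ i j, p i → c.1 j i = if i = j then 1 else 0)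
    (hK : ∀ u : Fˣ, ∃ K : GL (Fin k) F, K.1.det = u ∧ K * tinv c * K⁻¹ = c⁻¹) :
    ∃ r ∈ Cfsg.Omega F (Cfsg.quadFormPlus k F), r * plusLev c * r⁻¹ = (plusLev c)⁻¹ := by
  obtain ⟨R, hR, hRv⟩ := exists_plus_flip (F := F) hF p hp heven
  obtain ⟨u, hu⟩ := exists_adjust (qPlus_nondeg k) (by rw [finrank_plusSpace]; omega) (plus_exception hF) (leviHom k)
    (fun A => leviHom_mem_iff hk (Or.inl (by omega)) A) (dickson_leviHom k) hR
  obtain ⟨K, hdet, hKc⟩ := hK u
  refine ⟨plusLev K * R, (mem_Omega_iff_orth (qPlus (F := F) k) plus_hf _).2 (by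
    rw [map_mul, isoOrth_plusLev]; exact hu K hdet), ?_⟩
  have hRc : R * plusLev c = plusLev (tinv c) * R := by
    refine Subtype.ext (Units.ext (Matrix.ext_iff_mulVec.2 fun v => ?_))
    show (R.1.1 * lvM c) *ᵥ v = (lvM (tinv c) * R.1.1) *ᵥ v
    have htt : tinv (tinv c) = c := Units.ext (transpose_transpose _)
    rw [← mulVec_mulVec, ← mulVec_mulVec, hRv, hRv, lvM, lvM, htt, fromBlocks_mulVec, fromBlocks_mulVec]
    simp only [Sum.elim_inl, Sum.elim_inr, Sum.elim_comp_inl, Sum.elim_comp_inr, zero_mulVec, add_zero, zero_add]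
    have ht : (∀ i j, p i → (tinv c).1 i j = if i = j then 1 else 0) ∧
        ∀ i j, p i → (tinv c).1 j i = if i = j then 1 else 0 := by
      refine ⟨fun i j h => ?_, fun i j h => ?_⟩
      · rw [coe_tinv, transpose_apply]; exact (unit_line (fun j => hc1 i j h) (fun j => hc2 i j h)).2 j
      · rw [coe_tinv, transpose_apply]; exact (unit_line (fun j => hc1 i j h) (fun j => hc2 i j h)).1 j
    funext t
    rcases t with i | i
    · simp only [Sum.elim_inl]
      rw [flip_sum p ht.1 ht.2]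
      by_cases h : p i
      · rw [if_pos h, if_pos h]
        show ∑ j, c.1 i j * _ = _
        simp [hc1 i _ h]
      · rw [if_neg h, if_neg h]; rfl
    · simp only [Sum.elim_inr]
      rw [flip_sum p hc1 hc2]
      by_cases h : p i
      · rw [if_pos h, if_pos h]
        show ∑ j, (tinv c).1 i j * _ = _
        simp [ht.1 i _ h]
      · rw [if_neg h, if_neg h]; rfl
  calc plusLev K * R * plusLev c * (plusLev K * R)⁻¹ = plusLev K * (R * plusLev c) * R⁻¹ * (plusLev K)⁻¹ := by group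
    _ = plusLev (K * tinv c * K⁻¹) := by rw [hRc, map_mul, map_mul, map_inv]; group
    _ = _ := by rw [hKc, map_inv]

theorem classSquare_plus (h9 : 9 ≤ Fintype.card F) {m : ℕ} (hm : 4 ≤ m) :
    ClassSquare (Cfsg.POmega F (Cfsg.quadFormPlus m F)) := by
  classical
  obtain ⟨n, rfl⟩ : ∃ n, m = n + 2 := ⟨m - 2, by omega⟩
  obtain ⟨g, hg⟩ := exists_large_order h9
  have hpow : ∀ e : ℕ, 1 ≤ e → e ≤ 7 → g ^ e ≠ 1 := fun e h1 h2 he =>
    hg e (by omega) (by omega) (by rw [zpow_natCast]; exact he)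
  set s : Fˣ := g * g with hs
  set b : Fˣ := s⁻¹ with hb
  have heig : ∀ i : Fin (n + 2), ∃ e : ℕ, e ≤ 4 ∧ (e = 0 → i.val = 0) ∧ (e = 4 → i.val = 1) ∧ (e ≠ 1 ∧ e ≠ 3) ∧
      (s : F) * cyB n b i = ((g ^ e : Fˣ) : F) := by
    intro i
    unfold cyB
    split_ifs with h0 h1
    · exact ⟨0, by omega, fun _ => h0, fun h => absurd h (by omega), by omega, by rw [hb, ← Units.val_mul, mul_inv_cancel, pow_zero]⟩
    · exact ⟨4, le_rfl, fun h => absurd h (by omega), fun _ => h1, by omega,
        by rw [hb, inv_inv, hs, ← Units.val_mul, ← pow_two, ← pow_two, ← pow_mul]⟩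
    · exact ⟨2, by omega, fun h => absurd h (by omega), fun h => absurd h (by omega), by omega,
        by rw [mul_one, hs, pow_two]⟩
  have hfree : ∀ Z : Matrix (Fin (n + 2)) (Fin (n + 2)) F, IsAltM Z → ∀ i j, (s : F) * cyB n b i * ((s : F) * cyB n b j) = 1 → Z i j = 0 := by
    intro Z hZ i j h
    by_cases hij : i = j
    · subst hij
      simpa [mulVec, dotProduct, Pi.single_apply] using hZ (Pi.single i 1)
    · obtain ⟨e, he4, he0, he4', ⟨he1, he3⟩, he⟩ := heig i
      obtain ⟨e', he4'', he0', he4''', ⟨he1', he3'⟩, he'⟩ := heig j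
      rw [he, he', ← Units.val_mul, ← pow_add, Units.val_eq_one] at h
      have hne : i.val ≠ j.val := Fin.val_ne_of_ne hij
      refine absurd h (hpow _ ?_ ?_)
      · by_contra hc
        exact hne ((he0 (by omega)).trans (he0' (by omega)).symm)
      · by_contra hc
        exact hne ((he4' (by omega)).trans (he4''' (by omega)).symm)
  have hs1 : b ≠ 1 := fun h => hpow 2 (by omega) (by omega) (by rw [pow_two, ← hs]; exact inv_eq_one.1 h)
  have hs2 : b * b ≠ 1 := fun h => hpow 4 (by omega) (by omega) (by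
    rw [hb, ← _root_.mul_inv_rev, inv_eq_one, hs, ← pow_two, ← pow_two, ← pow_mul] at h; exact h)
  have hl : Free IsAltM (cs n s b).1 := free_lower (cs_lower s b) fun Z hZ i j h => by
    rw [cs_diag, cs_diag] at h
    exact hfree Z hZ i j h
  have : Finite (PlusO (n + 2) F) := by
    have : Finite (Matrix (Fin (n + 2) ⊕ Fin (n + 2)) (Fin (n + 2) ⊕ Fin (n + 2)) F) :=
      inferInstanceAs (Finite ((Fin (n + 2) ⊕ Fin (n + 2)) → (Fin (n + 2) ⊕ Fin (n + 2)) → F))
    exact Finite.of_injective _ (isoMat_injective (Cfsg.quadFormPlus (n + 2) F))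
  have hsh := Hyp.shears_le (plusHyp (F := F) (k := n + 2)) (c := cs n s b) hl (free_conj plusHyp.P_congr
    (by have := sim_cs_transpose s b (1 : GL (Fin (n + 2)) F); rwa [one_mul, inv_one, mul_one] at this) hl)
  have hsq : IsSquare (s : F) := ⟨(g : F), by rw [hs, Units.val_mul]⟩
  have hd : IsSquare ((s : F) ^ (2 * (n + 2))) := hsq.pow _
  refine Hyp.classSquare (plusHyp (F := F) (k := n + 2)) (Cfsg.Omega F (Cfsg.quadFormPlus (n + 2) F)) le_rfl
    (four_of_nine h9) hs1 hs2 hfree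
    ((plusLev_mem_iff (by omega) (by omega) _).2 (by rw [det_cs]; exact hsq.pow _))
    (fun S hS => (plusLev_mem_iff (by omega) (by omega) S).2 (by rw [hS]; exact IsSquare.one))
    ?_ (fun A B => alt_fix0 (by omega))
    (fun x hx hC => plus_fix hm (by omega) hsh (pow_ne_zero _ s.ne_zero) hd _ x rfl hx hC)
  refine plus_real (by omega) (by omega) (cs n s b) (fun i => i.val = 0 ∧ Odd (n + 2))
    (fun i j hi hj => Fin.ext (hi.1.trans hj.1.symm)) ⟨fun ⟨i, hi⟩ => hi.2, fun h => ⟨0, rfl, h⟩⟩ ?_ ?_ (real_cs s b)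
  · rintro i j ⟨hi, -⟩
    obtain rfl : i = 0 := Fin.ext hi
    rw [coe_cs, Matrix.smul_apply, smul_eq_mul]
    by_cases hj : j = 0
    · subst hj; simp [cyN, nf, cyB, hb]
    · rw [(cyN_edge b j hj).1, mul_zero, if_neg (Ne.symm hj)]
  · rintro i j ⟨hi, -⟩
    obtain rfl : i = 0 := Fin.ext hi
    rw [coe_cs, Matrix.smul_apply, smul_eq_mul]
    by_cases hj : j = 0
    · subst hj; simp [cyN, nf, cyB, hb]
    · rw [(cyN_edge b j hj).2, mul_zero, if_neg (Ne.symm hj)]

end Cfsg.Agent.Lib.ThompsonSquare
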