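import Cfsg.Agent.Lib.ThompsonSquare.Classical.Hyp
import Cfsg.Agent.Lib.ThompsonSquare.PSL

/-!
Thompson's statement for the symplectic groups.
-/

set_option autoImplicit false

namespace Cfsg.Agent.Lib.ThompsonSquare

open Matrix Module Cfsg.Agent.Lib.Sourour

variable {F : Type*} [Field F] {k : ℕ}

theorem symp_exists_of_blocks {A B C D : Matrix (Fin k) (Fin k) F} (h1 : Aᵀ * C = Cᵀ * A) (h2 : Bᵀ * D = Dᵀ * B)
    (h3 : Aᵀ * D - Cᵀ * B = 1) :
    ∃ g : symplecticGroup (Fin k) F, g.1 = fromBlocks A B C D :=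
  ⟨⟨_, SymplecticGroup.fromBlocks_mem_iff.2 ⟨h1, h2, h3⟩⟩, rfl⟩

theorem symp_rel (g : symplecticGroup (Fin k) F) :
    (g.1.toBlocks₁₁)ᵀ * g.1.toBlocks₂₁ = (g.1.toBlocks₂₁)ᵀ * g.1.toBlocks₁₁ ∧
      (g.1.toBlocks₁₂)ᵀ * g.1.toBlocks₂₂ = (g.1.toBlocks₂₂)ᵀ * g.1.toBlocks₁₂ ∧
      (g.1.toBlocks₁₁)ᵀ * g.1.toBlocks₂₂ - (g.1.toBlocks₂₁)ᵀ * g.1.toBlocks₁₂ = 1 :=
  SymplecticGroup.fromBlocks_mem_iff.1 (by rw [fromBlocks_toBlocks]; exact g.2)

theorem lvM_mul (a b : GL (Fin k) F) : lvM (a * b) = lvM a * lvM b := by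
  rw [lvM, lvM, lvM, fromBlocks_multiply, map_mul, Units.val_mul, Units.val_mul]
  simp

theorem lvM_one : lvM (1 : GL (Fin k) F) = 1 := by
  rw [lvM, map_one, Units.val_one, fromBlocks_one]

/-- The Levi embedding. -/
def sympLev : GL (Fin k) F →* symplecticGroup (Fin k) F where
  toFun a := ⟨lvM a, SymplecticGroup.fromBlocks_mem_iff.2
    ⟨by simp, by simp, by rw [coe_tinv, ← transpose_mul, Units.inv_mul, transpose_one]; simp⟩⟩
  map_one' := Subtype.ext lvM_one
  map_mul' a b := Subtype.ext (lvM_mul a b)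

/-- The symplectic group as a hyperbolic group. -/
def sympHyp : Hyp (symplecticGroup (Fin k) F) F k where
  P := IsSymM
  P_zero := transpose_zero
  P_add _ _ h h' := IsSymM.add h h'
  P_neg Z h := by rw [IsSymM, transpose_neg, h]
  P_smul c Z h := by rw [IsSymM, transpose_smul, h]
  P_congr K Z h := by rw [IsSymM, transpose_mul, transpose_mul, transpose_transpose, h, mul_assoc]
  mat := (symplecticGroup (Fin k) F).subtype
  inj := Subtype.val_injective
  exUp Z h := symp_exists_of_blocks (by simp) (by simpa [IsSymM] using h) (by simp)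
  exDn Z h := symp_exists_of_blocks (by simpa [IsSymM] using h.symm) (by simp) (by simp)
  lev := sympLev
  mat_lev _ := rfl
  low g hA := by
    obtain ⟨h1, -, -⟩ := symp_rel g
    show IsSymM (g.1.toBlocks₂₁ * g.1.toBlocks₁₁⁻¹)
    change IsUnit g.1.toBlocks₁₁.det at hA
    have hAt : IsUnit g.1.toBlocks₁₁ᵀ.det := by rwa [det_transpose]
    rw [IsSymM, transpose_mul, transpose_nonsing_inv]
    calc (g.1.toBlocks₁₁ᵀ)⁻¹ * g.1.toBlocks₂₁ᵀ
        = (g.1.toBlocks₁₁ᵀ)⁻¹ * (g.1.toBlocks₂₁ᵀ * g.1.toBlocks₁₁) * g.1.toBlocks₁₁⁻¹ := by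
          rw [mul_assoc, mul_assoc, mul_nonsing_inv _ hA, mul_one]
      _ = _ := by rw [← h1, ← mul_assoc, nonsing_inv_mul _ hAt, one_mul]
  tri g hC := by
    obtain ⟨-, h2, h3⟩ := symp_rel g
    show g.1.toBlocks₂₂ = (g.1.toBlocks₁₁⁻¹)ᵀ ∧ IsUnit g.1.toBlocks₁₁.det ∧
      IsSymM (g.1.toBlocks₁₁⁻¹ * g.1.toBlocks₁₂)
    change g.1.toBlocks₂₁ = 0 at hC
    rw [hC, transpose_zero, zero_mul, sub_zero] at h3
    have hA : IsUnit g.1.toBlocks₁₁.det := by
      have := congrArg Matrix.det h3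
      rw [det_mul, det_transpose, det_one] at this
      exact IsUnit.of_mul_eq_one _ this
    have hD : g.1.toBlocks₂₂ = (g.1.toBlocks₁₁⁻¹)ᵀ := by
      rw [transpose_nonsing_inv]; exact (inv_eq_right_inv h3).symm
    refine ⟨hD, hA, ?_⟩
    rw [hD, transpose_transpose] at h2
    rw [IsSymM, transpose_mul]
    exact h2

theorem sandwich (A : Matrix (Fin k) (Fin k) F) (a b i j : Fin k) (c : F) :
    (Aᵀ * Matrix.single a b c * A) i j = A a i * c * A b j := by
  rw [Matrix.mul_apply, Finset.sum_eq_single b]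
  · rw [Matrix.mul_apply, Finset.sum_eq_single a]
    · simp
    · intro x _ hx; simp [Matrix.single, hx.symm]
    · simp
  · intro x _ hx
    rw [Matrix.mul_apply, Finset.sum_eq_zero, zero_mul]
    intro y _; simp [Matrix.single, hx.symm]
  · simp

theorem single_sandwich (B : Matrix (Fin k) (Fin k) F) (a b c d i j : Fin k) :
    (Matrix.single a b (1 : F) * B * Matrix.single c d (1 : F) : Matrix (Fin k) (Fin k) F) i j = if a = i ∧ d = j then B b c else 0 := by
  rw [Matrix.single_mul_mul_single, one_mul, mul_one]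
  simp [Matrix.single]

theorem sym_fix0 (hk : 2 ≤ k) {A B : Matrix (Fin k) (Fin k) F} (hA : ∀ Y, IsSymM Y → Aᵀ * Y * A = Y)
    (hB : ∀ Y, IsSymM Y → Y * B * Y = 0) : B = 0 ∧ ∃ d : F, d * d = 1 ∧ A = d • 1 := by
  classical
  have : Nontrivial (Fin k) := Fin.nontrivial_iff_two_le.2 hk
  have hdiag : ∀ a i j, A a i * A a j = if a = i ∧ a = j then 1 else 0 := by
    intro a i j
    have := congrFun (congrFun (hA (Matrix.single a a 1) (by rw [IsSymM, transpose_single])) i) j
    rw [sandwich, mul_one] at this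
    rw [this]; simp [Matrix.single]
  have hoff : ∀ a i, a ≠ i → A a i = 0 := fun a i h => by simpa [h] using hdiag a i i
  have hsym : ∀ a b : Fin k, IsSymM (Matrix.single a b 1 + Matrix.single b a (1 : F)) := fun a b => by
    rw [IsSymM, transpose_add, transpose_single, transpose_single, add_comm]
  have hpair : ∀ a b, a ≠ b → A a a * A b b = 1 := by
    intro a b h
    have := congrFun (congrFun (hA _ (hsym a b)) a) b
    rw [mul_add, add_mul, Matrix.add_apply, sandwich, sandwich, mul_one, mul_one, hoff b a h.symm, hoff a b h,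
      mul_zero, add_zero, Matrix.add_apply] at this
    simpa [Matrix.single, h] using this
  refine ⟨?_, ?_⟩
  · ext i j
    by_cases h : i = j
    · subst h
      obtain ⟨a, ha⟩ := exists_ne i
      have := congrFun (congrFun (hB _ (hsym a i)) a) a
      rw [add_mul, add_mul, mul_add, mul_add] at this
      simp only [Matrix.add_apply, single_sandwich] at this
      simpa [ha, ha.symm] using this
    · have := congrFun (congrFun (hB _ (hsym j i)) j) i
      rw [add_mul, add_mul, mul_add, mul_add] at this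
      simp only [Matrix.add_apply, single_sandwich] at this
      simpa [h, Ne.symm h] using this
  · obtain ⟨z, -⟩ := exists_pair_ne (Fin k)
    refine ⟨A z z, by simpa using hdiag z z z, ?_⟩
    ext i j
    by_cases h : i = j
    · subst h
      by_cases hz : i = z
      · simp [hz]
      · have h1 := hpair i z hz
        have h2 : A z z * A z z = 1 := by simpa using hdiag z z z
        rw [Matrix.smul_apply, one_apply_eq, smul_eq_mul, mul_one]
        linear_combination (A z z) * h1 - (A i i) * h2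
    · simp [h, hoff i j h]

theorem sq_all [Finite F] (h2 : (2 : F) = 0) (x : F) : IsSquare x := by
  refine FiniteField.isSquare_of_char_two ?_ x
  exact CharP.eq F (ringChar.charP F) (CharTwo.of_one_ne_zero_of_two_eq_zero one_ne_zero h2)

theorem sp_fix (h5 : Five F) [Finite F] (hk : 2 ≤ k) {d : F} (hd : d ≠ 0) :
    ∀ (r : ℕ) (A C : Matrix (Fin k) (Fin k) F), finrank F (LinearMap.ker A.mulVecLin) = r → C ≠ 0 →
      (∀ x, A *ᵥ x = 0 → C *ᵥ x = 0 → x = 0) → IsSymM (Aᵀ * C) →
      ∃ S, IsSymM S ∧ (A + S * C).det = d ∧ NonScalar (A + S * C) := by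
  intro r
  induction r using Nat.strong_induction_on with
  | h r ih =>
    intro A C hr hC hinj hsym
    by_cases hA : A.det = 0
    · obtain ⟨S, hS, hlt⟩ := sp_raise hinj hA
      have hsym' : IsSymM ((A + S * C)ᵀ * C) := by
        rw [transpose_add, add_mul, transpose_mul, hS]
        refine hsym.add ?_
        rw [IsSymM, transpose_mul, transpose_mul, transpose_transpose, hS, mul_assoc]
      obtain ⟨S', hS', h1, h2⟩ := ih _ (hr ▸ hlt) (A + S * C) C rfl hC (fun x hx hx' => hinj x (by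
        rwa [add_mulVec, ← mulVec_mulVec, hx', mulVec_zero, add_zero] at hx) hx') hsym'
      exact ⟨S + S', hS.add hS', by rwa [add_mul, ← add_assoc], by rwa [add_mul, ← add_assoc]⟩
    · exact sp_det h5 hk sq_all (Ne.isUnit hA) hC hsym hd

theorem classSquare_PSp [Fintype F] (h9 : 9 ≤ Fintype.card F) {m : ℕ} (hm : 2 ≤ m) :
    ClassSquare (Cfsg.PSp m F) := by
  classical
  obtain ⟨n, rfl⟩ : ∃ n, m = n + 2 := ⟨m - 2, by omega⟩
  obtain ⟨g, hg⟩ := exists_large_order h9
  have hpow : ∀ e : ℕ, 1 ≤ e → e ≤ 7 → g ^ e ≠ 1 := fun e h1 h2 he =>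
    hg e (by omega) (by omega) (by rw [zpow_natCast]; exact he)
  have heig : ∀ i : Fin (n + 2), ∃ e : ℕ, 1 ≤ e ∧ e ≤ 3 ∧
      ((g * g : Fˣ) : F) * cyB n g i = ((g ^ e : Fˣ) : F) := by
    intro i
    unfold cyB
    split_ifs
    · exact ⟨3, by omega, le_rfl, by rw [pow_succ, pow_two, ← Units.val_mul]⟩
    · exact ⟨1, le_rfl, by omega, by rw [← Units.val_mul, pow_one, mul_inv_cancel_right]⟩
    · exact ⟨2, by omega, by omega, by rw [mul_one, pow_two]⟩
  have : Finite (symplecticGroup (Fin (n + 2)) F) := by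
    have : Finite (Matrix (Fin (n + 2) ⊕ Fin (n + 2)) (Fin (n + 2) ⊕ Fin (n + 2)) F) :=
      inferInstanceAs (Finite ((Fin (n + 2) ⊕ Fin (n + 2)) → (Fin (n + 2) ⊕ Fin (n + 2)) → F))
    exact Subtype.finite
  have key := Hyp.classSquare (sympHyp (F := F) (k := n + 2)) ⊤ le_top (four_of_nine h9) (s := g * g) (b := g)
    (fun h => hpow 1 le_rfl (by omega) (by rw [pow_one]; exact h))
    (fun h => hpow 2 (by omega) (by omega) (by rw [pow_two]; exact h))
    (fun Z _ i j h => by
      obtain ⟨e, he1, he3, he⟩ := heig i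
      obtain ⟨e', he1', he3', he'⟩ := heig j
      rw [he, he', ← Units.val_mul, ← pow_add, Units.val_eq_one] at h
      exact absurd h (hpow _ (by omega) (by omega)))
    (Subgroup.mem_top _) (fun _ _ => Subgroup.mem_top _)
    (by
      obtain ⟨K, -, hK⟩ := real_cs (n := n) (g * g) g 1
      refine ⟨sympLev K * SymplecticGroup.symJ _ _, Subgroup.mem_top _, ?_⟩
      show sympLev K * SymplecticGroup.symJ _ _ * sympLev _ * _ = (sympLev (cs n (g * g) g))⁻¹
      have hJ : SymplecticGroup.symJ _ _ * sympLev (cs n (g * g) g) =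
          sympLev (tinv (cs n (g * g) g)) * SymplecticGroup.symJ (Fin (n + 2)) F := by
        have htt : tinv (tinv (cs n (g * g) g)) = cs n (g * g) g := Units.ext (transpose_transpose _)
        refine Subtype.ext ?_
        show Matrix.J (Fin (n + 2)) F * lvM _ = lvM _ * Matrix.J (Fin (n + 2)) F
        rw [lvM, lvM, Matrix.J, fromBlocks_multiply, fromBlocks_multiply, htt]
        simp
      rw [← map_inv, ← hK, map_mul, map_mul, map_inv, _root_.mul_inv_rev]
      calc sympLev K * SymplecticGroup.symJ _ _ * sympLev (cs n (g * g) g) *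
            ((SymplecticGroup.symJ _ _)⁻¹ * (sympLev K)⁻¹)
          = sympLev K * (SymplecticGroup.symJ _ _ * sympLev (cs n (g * g) g)) *
            (SymplecticGroup.symJ _ _)⁻¹ * (sympLev K)⁻¹ := by group
        _ = _ := by rw [hJ]; group)
    (fun A B => sym_fix0 (by omega))
    (fun x _ hC => sp_fix (five_of_card (by omega)) (by omega) (pow_ne_zero _ (g * g).ne_zero) _ _ _ rfl hC
      (Hyp.joint_ker sympHyp x) (by
        obtain ⟨h1, -, -⟩ := symp_rel x
        show IsSymM (x.1.toBlocks₁₁ᵀ * x.1.toBlocks₂₁)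
        rw [IsSymM, transpose_mul, transpose_transpose]
        exact h1.symm))
  refine classSquare_of_equiv (QuotientGroup.congr _ _ Subgroup.topEquiv.symm ?_) key
  ext x
  rw [Subgroup.mem_center_iff, Subgroup.mem_map]
  constructor
  · rintro ⟨z, hz, rfl⟩ y
    exact Subtype.ext (Subgroup.mem_center_iff.1 hz y.1)
  · intro h
    exact ⟨x.1, Subgroup.mem_center_iff.2 fun y => congrArg Subtype.val (h ⟨y, Subgroup.mem_top y⟩), rfl⟩

end Cfsg.Agent.Lib.ThompsonSquare
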